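import Groth.Agent.H10Coh.StabBC.Pullback
import Groth.Agent.H10Coh.Stab.HN
import Groth.Agent.H8Props.FieldDimScheme

/-!
# Purity and semistability after extension to an algebraically closed field
-/

set_option autoImplicit false
set_option linter.style.haveILetI false
set_option linter.unusedSectionVars false

universe u

open CategoryTheory CategoryTheory.Limits AlgebraicGeometry Opposite TopologicalSpace Polynomial

namespace Groth.Agent.H10Coh.StabBC

open Groth.Agent.LeadBC StabCat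

theorem exists_dim_lt (k : Type u) [Field k] (Z : Scheme.{u}) [Z.Over (Spec (CommRingCat.of k))]
    [IsProper (Z ↘ Spec (CommRingCat.of k))] [IsNoetherian Z] :
    ∃ m : ℕ, topologicalKrullDim Z < (m : WithBot ℕ∞) := by
  classical
  haveI : LocallyOfFiniteType (Z ↘ Spec (CommRingCat.of k)) := inferInstance
  have hfin : (irreducibleComponents Z).Finite := NoetherianSpace.finite_irreducibleComponents
  have hc : ∀ C : hfin.toFinset, ∃ s : ℕ, topologicalKrullDim (C.1 : Set Z) = s := fun C => by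
    have hC := hfin.mem_toFinset.1 C.2
    obtain ⟨s, hs⟩ := H8Props.FieldDim.exists_nat_cdim (Z ↘ Spec (CommRingCat.of k)) hC.1.genericPoint
    refine ⟨s, ?_⟩
    rw [← hs, H8Props.FieldDim.cdim, hC.1.closure_genericPoint (isClosed_of_mem_irreducibleComponents _ hC)]
  choose s hs using hc
  refine ⟨∑ C, s C + 1, lt_of_le_of_lt (b := ((∑ C, s C : ℕ) : WithBot ℕ∞)) ?_ (by exact_mod_cast Nat.lt_succ_self _)⟩
  rw [H8Props.FieldDim.dim_eq_iSup_cdim]
  refine iSup_le fun x => ?_
  let C : hfin.toFinset := ⟨irreducibleComponent x,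
    hfin.mem_toFinset.2 (irreducibleComponent_mem_irreducibleComponents x)⟩
  refine (H8Props.FieldDim.dim_mono (closure_minimal (Set.singleton_subset_iff.2 mem_irreducibleComponent)
    isClosed_irreducibleComponent)).trans ?_
  show topologicalKrullDim (C.1 : Set Z) ≤ _
  rw [hs C]
  exact_mod_cast Finset.single_le_sum (fun C _ => Nat.zero_le (s C)) (Finset.mem_univ C)

theorem exists_dim_eq {Z : Scheme.{u}} {F : Z.Modules} (h0 : ¬ IsZero F) {m : ℕ}
    (hm : topologicalKrullDim (CohB1.support F) < (m : WithBot ℕ∞)) :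
    ∃ e : ℕ, topologicalKrullDim (CohB1.support F) = (e : WithBot ℕ∞) := by
  obtain ⟨x, hx⟩ := H25Euler.support_nonempty h0
  haveI : Nonempty (CohB1.support F) := ⟨⟨x, hx⟩⟩
  haveI : Nonempty (IrreducibleCloseds (CohB1.support F)) :=
    ⟨⟨closure {⟨x, hx⟩}, isIrreducible_singleton.closure, isClosed_closure⟩⟩
  have hne : topologicalKrullDim (CohB1.support F) ≠ ⊥ := bot_lt_iff_ne_bot.1 Order.bot_lt_krullDim
  obtain ⟨a, ha⟩ := WithBot.ne_bot_iff_exists.1 hne
  rw [← ha] at hm
  obtain ⟨e, he⟩ := ENat.ne_top_iff_exists.1 (ne_top_of_lt (WithBot.coe_lt_coe.1 hm))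
  exact ⟨e, by rw [← ha, ← he]; rfl⟩

/-- The preimage of a submodule of a cokernel. -/
theorem exists_preimage_data {Z : Scheme.{u}} [IsLocallyNoetherian Z] {E F T : Z.Modules} (hE : Coh.IsCoh E)
    (f : F ⟶ E) [Mono f] (hF : Coh.IsCoh F) (t : T ⟶ cokernel f) [Mono t] (hT : Coh.IsCoh T) :
    ∃ (N : Z.Modules) (n : N ⟶ E) (a : F ⟶ N), Mono n ∧ Mono a ∧ Coh.IsCoh N ∧ a ≫ n = f ∧
      Nonempty (cokernel a ≅ T) := by
  let e : E ⟶ cokernel t := cokernel.π f ≫ cokernel.π t
  have hC : Coh.IsCoh (cokernel f) := H10Coh.isCoh_cokernel f hF.1 hE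
  have hN : Coh.IsCoh (kernel e) := H10Coh.isCoh_kernel e hE (H10Coh.isCoh_cokernel t hT.1 hC).1
  let a : F ⟶ kernel e := kernel.lift e f (by simp [e])
  have hker : IsLimit (KernelFork.ofι t (cokernel.condition t)) :=
    Abelian.monoIsKernelOfCokernel (CokernelCofork.ofπ (cokernel.π t) (cokernel.condition t)) (cokernelIsCokernel t)
  have hkerf : IsLimit (KernelFork.ofι f (cokernel.condition f)) :=
    Abelian.monoIsKernelOfCokernel (CokernelCofork.ofπ (cokernel.π f) (cokernel.condition f)) (cokernelIsCokernel f)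
  obtain ⟨ψ, hψ⟩ : { l : kernel e ⟶ T // l ≫ t = kernel.ι e ≫ cokernel.π f } :=
    KernelFork.IsLimit.lift' hker (kernel.ι e ≫ cokernel.π f) (by
      show (kernel.ι e ≫ cokernel.π f) ≫ cokernel.π t = 0
      rw [Category.assoc]; exact kernel.condition e)
  haveI : Mono a := mono_of_mono_fac (kernel.lift_ι e f _)
  have haψ : a ≫ ψ = 0 := by
    rw [← cancel_mono t, Category.assoc, hψ, ← Category.assoc, kernel.lift_ι, cokernel.condition, Limits.zero_comp]
  haveI : Epi ψ := by
    have hpb : IsPullback (kernel.ι e) ψ (cokernel.π f) t := by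
      refine IsPullback.of_isLimit (PullbackCone.IsLimit.mk hψ.symm
        (fun s => kernel.lift e s.fst (by
          show s.fst ≫ cokernel.π f ≫ cokernel.π t = 0
          rw [← Category.assoc, s.condition, Category.assoc, cokernel.condition, Limits.comp_zero]))
        (fun s => kernel.lift_ι _ _ _) (fun s => ?_) (fun s m h₁ _ => ?_))
      · rw [← cancel_mono t, Category.assoc, hψ, kernel.lift_ι_assoc, s.condition]
      · rw [← cancel_mono (kernel.ι e), kernel.lift_ι, h₁]
    exact Abelian.epi_snd_of_isLimit (cokernel.π f) t hpb.isLimit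
  have hex : (ShortComplex.mk a ψ haψ).ShortExact := by
    refine ShortComplex.ShortExact.mk' (ShortComplex.exact_of_f_is_kernel _ ?_) inferInstance inferInstance
    refine KernelFork.IsLimit.ofι' a haψ fun {W} g hg => ?_
    obtain ⟨l, hl⟩ := KernelFork.IsLimit.lift' hkerf (g ≫ kernel.ι e) (by
      show (g ≫ kernel.ι e) ≫ cokernel.π f = 0
      rw [Category.assoc, ← hψ, ← Category.assoc, hg, Limits.zero_comp])
    refine ⟨l, ?_⟩
    rw [← cancel_mono (kernel.ι e), Category.assoc, kernel.lift_ι]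
    exact hl
  exact ⟨kernel e, kernel.ι e, a, inferInstance, inferInstance, hN, kernel.lift_ι _ _ _,
    ⟨IsColimit.coconePointUniqueUpToIso (cokernelIsCokernel a) hex.gIsCokernel⟩⟩

variable {k Ω : Type u} [Field k] [Field Ω] [Algebra k Ω] {X : Scheme.{u}} [X.Over (Spec (CommRingCat.of k))]
  [IsProper (X ↘ Spec (CommRingCat.of k))] {X' : Scheme.{u}} [X'.Over (Spec (CommRingCat.of Ω))] {q : X' ⟶ X}
  (hsq : IsPullback q (X' ↘ Spec (CommRingCat.of Ω)) (X ↘ Spec (CommRingCat.of k))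
    (Spec.map (CommRingCat.ofHom (algebraMap k Ω))))
  {L E : X.Modules} {d : ℕ}

include hsq

/-- The Hilbert polynomial is invariant under the automorphisms of the constants. -/
theorem hilbPoly_twist (hL : CohB1.IsAmple L) (σ : Ω ≃ₐ[k] Ω) {s : X' ⟶ X'} (hs : s ≫ q = q)
    (hσ : IsPullback s (X' ↘ Spec (CommRingCat.of Ω)) (X' ↘ Spec (CommRingCat.of Ω))
      (Spec.map (CommRingCat.ofHom σ.toAlgHom.toRingHom)))
    {G : X'.Modules} (hG : Coh.IsCoh G) {P : ℚ[X]} (hP : ShStab.IsHilbPoly Ω X' (qF q L) G P) :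
    ShStab.IsHilbPoly Ω X' (qF q L) (qF s G) P := by
  haveI := isProper_pullback hsq
  refine hilbPoly_congrL (twistIso hs L) ?_
  exact @hilbPoly_pullback Ω Ω _ _ σ.toAlgHom.toRingHom.toAlgebra X' _ _ X' _ s hσ (qF q L) G
    (isAmple_pullback hsq hL) hG P hP

omit [IsProper (X ↘ Spec (CommRingCat.of k))] in
theorem isCoh_qF (hE : Coh.IsCoh E) : Coh.IsCoh (qF q E) := H17.ConsProp.isCoh_pullback q hE

variable [IsAlgClosed Ω]

/-- An extension of a pure sheaf to an algebraically closed field is pure. -/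
theorem isPure_pullback_of_isAlgClosed (hL : CohB1.IsAmple L) (hE : Coh.IsCoh E) (hp : ShStab.IsPure X E d) :
    ShStab.IsPure X' (qF q E) d := by
  haveI := isProper_pullback hsq
  haveI := Stab.isLocallyNoetherian_of_proper (Z := X) k
  haveI := Stab.isLocallyNoetherian_of_proper (Z := X') Ω
  haveI : CompactSpace X := hL.2.1
  have hE' : Coh.IsCoh (qF q E) := isCoh_qF hsq hE
  have hL' := isAmple_pullback hsq hL
  haveI := Stab.isNoetherian_of_ample (Z := X') Ω hL'
  by_cases h0 : IsZero E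
  · exact fun F ι hι _ hF0 => absurd (@IsZero.of_mono _ _ _ _ _ ι hι ((Scheme.Modules.pullback q).map_isZero h0)) hF0
  obtain ⟨pE, hpE⟩ := Stab.exists_hilb_self (k := k) hL hp hE
  have hpE' := hilbPoly_pullback hsq hL hE hpE
  have hcE : ∀ n, d < n → pE.coeff n = 0 := Stab.coeff_above hL hp hE hpE
  have hαE := Stab.alpha_pos_of_pure hL hp hE h0 hpE
  -- the support of `E'` has dimension `d`
  obtain ⟨m, hm⟩ : ∃ m : ℕ, topologicalKrullDim (CohB1.support (qF q E)) < (m : WithBot ℕ∞) :=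
    ((exists_dim_lt Ω X').imp fun m hm => (topologicalKrullDim_subspace_le X' _).trans_lt hm)
  -- submodules have polynomials
  have hsub : ∀ (F : X'.Modules) (i : F ⟶ qF q E), Mono i → Coh.IsCoh F →
      ∃ p, ShStab.IsHilbPoly Ω X' (qF q L) F p ∧ (∀ n, d < n → p.coeff n = 0) ∧ 0 ≤ alpha d p := by
    intro F i hi hF
    haveI := hi
    obtain ⟨p, hpF⟩ := H25Euler.exists_hilbPoly (k := Ω) hL' hF
      (H25Euler.dim_lt_of_subset (H25Euler.support_subset_of_mono i) hm)
    have hle := (H25Euler.polyLE_of_mono hL' hF hE' i hpF hpE').1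
    have hcoeff : ∀ n, d < n → p.coeff n = 0 := by
      by_cases hp0 : p = 0
      · simp [hp0]
      intro n hn
      obtain ⟨-, hdeg⟩ := Stab.natDegree_mono hp0 (H25Euler.eval_nonneg hL' hF hpF) hle
      exact coeff_eq_zero_of_natDegree_lt (lt_of_le_of_lt
        (hdeg.trans (natDegree_le_iff_coeff_eq_zero.2 hcE)) hn)
    exact ⟨p, hpF, hcoeff, mul_nonneg (Nat.cast_nonneg _)
      (H25Euler.coeff_nonneg_of_eventually hcoeff (H25Euler.eval_nonneg hL' hF hpF))⟩
  -- a maximal submodule of smaller dimension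
  by_contra hbad
  obtain ⟨F₁, i₁, hi₁, hF₁, hF₁0, hsmall₁⟩ : ∃ (F : X'.Modules) (i : F ⟶ qF q E), Mono i ∧ Coh.IsCoh F ∧
      ¬ IsZero F ∧ ∀ p, ShStab.IsHilbPoly Ω X' (qF q L) F p → alpha d p = 0 := by
    by_contra hc
    push Not at hc
    refine hbad fun F i hi hF hF0 => ?_
    haveI := hi
    obtain ⟨p, hpF, hpα⟩ := hc F i hi hF hF0
    obtain ⟨p', hpF', hcoeff, hnn⟩ := hsub F i hi hF
    obtain rfl := H25Euler.hilbPoly_unique hpF hpF'
    obtain ⟨e, he⟩ : ∃ e : ℕ, topologicalKrullDim (CohB1.support F) = (e : WithBot ℕ∞) :=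
      exists_dim_eq hF0 (H25Euler.dim_lt_of_subset (H25Euler.support_subset_of_mono i) hm)
    obtain ⟨hdeg, -, hpos⟩ := Stab.degree_hilbPoly hL' hF he hpF
    rw [he]
    have h1 : p.natDegree ≤ d := natDegree_le_iff_coeff_eq_zero.2 hcoeff
    have h2 : p.coeff d ≠ 0 := fun h => hpα (by rw [alpha, h, mul_zero])
    have h3 : d ≤ p.natDegree := le_natDegree_of_ne_zero h2
    exact_mod_cast (hdeg ▸ le_antisymm h1 h3)
  haveI := hi₁
  let Small : ∀ (F : X'.Modules), (F ⟶ qF q E) → Prop := fun F i =>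
    Mono i ∧ Coh.IsCoh F ∧ ∀ p, ShStab.IsHilbPoly Ω X' (qF q L) F p → alpha d p = 0
  obtain ⟨T, t, ⟨ht, hT, hTα⟩, hmax⟩ := LeadDev.exists_maximal_sub (qF q E) hE' Small (fun F i h => ⟨h.1, h.2.1⟩)
    ⟨F₁, i₁, hi₁, hF₁, hsmall₁⟩
  haveI := ht
  obtain ⟨pT, hpT, -, -⟩ := hsub T t ht hT
  -- no small submodule of the quotient
  have hquot : ∀ (J : X'.Modules) (j : J ⟶ cokernel t) (pJ : ℚ[X]), Mono j → Coh.IsCoh J →
      ShStab.IsHilbPoly Ω X' (qF q L) J pJ → alpha d pJ ≤ 0 → IsZero J := by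
    intro J j pJ hj hJ hpJ hJα
    obtain ⟨N, n, a, hn, ha, hN, han, ⟨eJ⟩⟩ := exists_preimage_data hE' t hT j hJ
    haveI := hn
    haveI := ha
    obtain ⟨pN, hpN, -, hNα⟩ := hsub N n hn hN
    have hc : ShStab.IsHilbPoly Ω X' (qF q L) J (pN - pT) :=
      H25Euler.hilbPoly_congr eJ (H25Euler.polyLE_of_mono hL' hT hN a hpT hpN).2
    have hα : alpha d pN = 0 := by
      have := H25Euler.hilbPoly_unique hpJ hc
      rw [this, Stab.alpha_sub, hTα _ hpT, sub_zero] at hJα
      exact le_antisymm hJα hNα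
    haveI : Epi a := hmax N n a ⟨hn, hN, fun p hp => by rw [H25Euler.hilbPoly_unique hp hpN]; exact hα⟩ han
    exact (isZero_cokernel_of_epi a).of_iso eJ.symm
  have himage : ∀ {A : X'.Modules} (φ : A ⟶ cokernel t) (pA : ℚ[X]), Coh.IsCoh A →
      ShStab.IsHilbPoly Ω X' (qF q L) A pA → alpha d pA = 0 → (∀ K, (i : K ⟶ A) → Mono i → Coh.IsCoh K →
        ∃ p, ShStab.IsHilbPoly Ω X' (qF q L) K p ∧ 0 ≤ alpha d p) → φ = 0 := by
    intro A φ pA hA hpA hAα hK
    have hC : Coh.IsCoh (cokernel t) := H10Coh.isCoh_cokernel t hT.1 hE'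
    obtain ⟨pK, hpK, hKα⟩ := hK (kernel φ) (kernel.ι φ) inferInstance (H10Coh.isCoh_kernel φ hA hC.1)
    have hI : Coh.IsCoh (Abelian.image φ) :=
      H10Coh.isCoh_kernel (cokernel.π φ) hC (H10Coh.isCoh_cokernel φ hA.1 hC).1
    have hpI : ShStab.IsHilbPoly Ω X' (qF q L) (Abelian.image φ) (pA - pK) :=
      H25Euler.hilbPoly_congr (Abelian.coimageIsoImage φ)
        (H25Euler.polyLE_of_mono hL' (H10Coh.isCoh_kernel φ hA hC.1) hA (kernel.ι φ) hpK hpA).2
    by_contra hφ
    refine Stab.not_isZero_image hφ (hquot _ (Abelian.image.ι φ) _ inferInstance hI hpI ?_)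
    rw [Stab.alpha_sub, hAα]; linarith
  -- descend
  obtain ⟨T₀, t₀, eT, ht₀, hT₀, het⟩ := exists_descent hsq t hE hT
    (fun φ => himage φ pT hT hpT (hTα _ hpT) fun K i hi hK => by
      haveI := hi
      obtain ⟨p, hp, -, hα⟩ := hsub K (i ≫ t) inferInstance hK
      exact ⟨p, hp, hα⟩)
    (fun σ s hs_iso hs hσ => by
      haveI := hs_iso
      let i := (Scheme.Modules.pullback s).map t ≫ (twistIso hs E).hom
      haveI := H16Derived.KFlat.Stalk.preservesFiniteLimits_pullback_of_flat s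
      haveI : Mono i := inferInstance
      have hsT : Coh.IsCoh (qF s T) := H17.ConsProp.isCoh_pullback s hT
      have h0 : i ≫ cokernel.π t = 0 := himage (i ≫ cokernel.π t) pT hsT
        (hilbPoly_twist hsq hL σ hs hσ hT hpT) (hTα _ hpT) fun K j hj hK => by
          haveI := hj
          obtain ⟨p, hp, -, hα⟩ := hsub K (j ≫ i) inferInstance hK
          exact ⟨p, hp, hα⟩
      have hker : IsLimit (KernelFork.ofι t (cokernel.condition t)) :=
        Abelian.monoIsKernelOfCokernel (CokernelCofork.ofπ (cokernel.π t) (cokernel.condition t))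
          (cokernelIsCokernel t)
      obtain ⟨l, hl⟩ := KernelFork.IsLimit.lift' hker i h0
      exact ⟨l, hl⟩)
  haveI := ht₀
  by_cases hT0 : IsZero T₀
  · have hTz : IsZero T := ((Scheme.Modules.pullback q).map_isZero hT0).of_iso eT.symm
    refine hF₁0 ?_
    have h := himage (i₁ ≫ cokernel.π t) _ hF₁ (hsub F₁ i₁ hi₁ hF₁).choose_spec.1
      (hsmall₁ _ (hsub F₁ i₁ hi₁ hF₁).choose_spec.1) fun K j hj hK => by
        haveI := hj
        obtain ⟨p, hp, -, hα⟩ := hsub K (j ≫ i₁) inferInstance hK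
        exact ⟨p, hp, hα⟩
    haveI : Mono (cokernel.π t) := by
      rw [show t = 0 from hTz.eq_of_src _ _]
      infer_instance
    have : i₁ = 0 := by rw [← cancel_mono (cokernel.π t), h, Limits.zero_comp]
    exact IsZero.of_mono_eq_zero i₁ this
  · obtain ⟨p₀, hp₀⟩ := Stab.exists_hilb_of_mono (k := k) hL hp hE t₀ hT₀
    have h1 := Stab.alpha_pos_of_pure hL (Stab.isPure_of_mono hp t₀) hT₀ hT0 hp₀
    rw [H25Euler.hilbPoly_unique (H25Euler.hilbPoly_congr eT (hilbPoly_pullback hsq hL hT₀ hp₀)) hpT,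
      hTα _ hpT] at h1
    exact lt_irrefl _ h1

/-- An extension of a semistable sheaf to an algebraically closed field is semistable. -/
theorem isSemistable_pullback_of_isAlgClosed (hL : CohB1.IsAmple L) (hE : ShStab.IsSemistable k X L E d) :
    ShStab.IsSemistable Ω X' (qF q L) (qF q E) d := by
  haveI := isProper_pullback hsq
  haveI := Stab.isLocallyNoetherian_of_proper (Z := X) k
  haveI := Stab.isLocallyNoetherian_of_proper (Z := X') Ω
  haveI : CompactSpace X := hL.2.1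
  obtain ⟨hEc, hE0, hp, hss⟩ := hE
  have hE' : Coh.IsCoh (qF q E) := isCoh_qF hsq hEc
  have hL' := isAmple_pullback hsq hL
  have hE0' := not_isZero_pullback hsq hEc hE0
  have hp' := isPure_pullback_of_isAlgClosed hsq hL hEc hp
  obtain ⟨pE, hpE⟩ := Stab.exists_hilb_self (k := k) hL hp hEc
  have hpE' := hilbPoly_pullback hsq hL hEc hpE
  obtain ⟨F, ι, hι, hF, hF0, hmax⟩ := Stab.exists_maxDestab (k := Ω) hL' hE' hE0' hp'
  haveI := hι
  obtain ⟨pF, hpF⟩ := Stab.exists_hilb_of_mono (k := Ω) hL' hp' hE' ι hF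
  have hαF := Stab.alpha_pos_of_pure hL' (Stab.isPure_of_mono hp' ι) hF hF0 hpF
  obtain ⟨F₀, ι₀, e, hι₀, hF₀, he⟩ := exists_descent hsq ι hEc hF
    (fun φ => by
      by_contra hφ
      have hC : Coh.IsCoh (cokernel ι) := H10Coh.isCoh_cokernel ι hF.1 hE'
      obtain ⟨pK, hK, hI, hpK, hpI⟩ := Stab.exists_image_data hL' hF hC φ hpF
        (Stab.dim_lt_succ_of_pure (Stab.isPure_of_mono hp' ι) hF)
      obtain ⟨N, n, a, hn, hN, han, ⟨eN⟩, hpN⟩ := Stab.exists_preimage hL' hp' hE' ι hF (Abelian.image.ι φ) hI hpF hpI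
      haveI := hn
      haveI : Mono a := mono_of_mono_fac han
      have hN0 : ¬ IsZero N := fun h => hF0 (IsZero.of_mono a h)
      obtain ⟨hle, heq⟩ := hmax N n hn hN hN0 pF _ hpF hpN
      have hαN := Stab.alpha_pos_of_pure hL' (Stab.isPure_of_mono hp' n) hN hN0 hpN
      have hlt : RedLT d (pF + (pF - pK)) pF := by
        rcases (Stab.redLE_iff.1 hle).eq_zero_or_pos with h | h
        · obtain ⟨ψ, hψ⟩ := heq (Stab.redEq_iff.2 h)
          refine absurd ?_ (Stab.not_isZero_image hφ)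
          have haψ : a ≫ ψ = 𝟙 F := by rw [← cancel_mono ι, Category.assoc, hψ, han, Category.id_comp]
          have hψa : ψ ≫ a = 𝟙 N := by rw [← cancel_mono n, Category.assoc, han, hψ, Category.id_comp]
          haveI : IsIso a := ⟨ψ, haψ, hψa⟩
          exact (isZero_cokernel_of_epi a).of_iso eN.symm
        · exact Stab.redLT_iff.2 h
      -- the kernel is dominated by `F`
      have hK' : Stab.Nonneg (Stab.cross d pK pF) := by
        by_cases hK0 : IsZero (kernel φ)
        · rw [H25Euler.hilbPoly_unique hpK (H25Euler.hilbPoly_zero hK0), Stab.cross_zero_left]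
          exact ⟨0, fun m _ => by simp⟩
        · exact Stab.redLE_iff.1 (hmax (kernel φ) (kernel.ι φ ≫ ι) inferInstance hK hK0 pF pK hpF hpK).1
      have h1 := Stab.redLT_iff.1 hlt
      rw [Stab.cross_add, Stab.cross_self, zero_add, Stab.cross_sub, Stab.cross_self, zero_sub] at h1
      exact Stab.not_pos_of_nonneg_neg (by rwa [neg_neg]) h1)
    (fun σ s hs_iso hs hσ => by
      haveI := hs_iso
      haveI := H16Derived.KFlat.Stalk.preservesFiniteLimits_pullback_of_flat s
      have hsF : Coh.IsCoh (qF s F) := H17.ConsProp.isCoh_pullback s hF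
      have hps := hilbPoly_twist hsq hL σ hs hσ hF hpF
      have hs0 : ¬ IsZero (qF s F) := fun h => by
        rw [H25Euler.hilbPoly_unique hps (H25Euler.hilbPoly_zero h), Stab.alpha_zero] at hαF
        exact lt_irrefl _ hαF
      exact (hmax (qF s F) ((Scheme.Modules.pullback s).map ι ≫ (twistIso hs E).hom) inferInstance hsF hs0
        pF pF hpF hps).2 (Stab.redEq_refl _ _))
  haveI := hι₀
  obtain ⟨p₀, hp₀⟩ := Stab.exists_hilb_of_mono (k := k) hL hp hEc ι₀ hF₀
  obtain rfl := H25Euler.hilbPoly_unique (H25Euler.hilbPoly_congr e (hilbPoly_pullback hsq hL hF₀ hp₀)) hpF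
  have hF₀0 : ¬ IsZero F₀ := fun h => hF0 (((Scheme.Modules.pullback q).map_isZero h).of_iso e.symm)
  have hle : RedLE d p₀ pE := by
    by_cases hi : IsIso ι₀
    · rw [H25Euler.hilbPoly_unique hp₀ (H25Euler.hilbPoly_congr (asIso ι₀).symm hpE)]
      exact Stab.redLE_of_redEq (Stab.redEq_refl _ _)
    · exact hss F₀ ι₀ inferInstance hF₀ hF₀0 hi p₀ pE hp₀ hpE
  obtain ⟨hge, hfac⟩ := hmax (qF q E) (𝟙 _) inferInstance hE' hE0' p₀ pE hpF hpE'
  obtain ⟨φ, hφ⟩ := hfac (Stab.redEq_of_redLE hge hle)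
  refine ⟨hE', hE0', hp', fun G g hg hG hG0 _ pG pE₂ hpG hpE₂ => ?_⟩
  obtain rfl := H25Euler.hilbPoly_unique hpE' hpE₂
  haveI : Epi ι := epi_of_epi_fac hφ
  haveI := isIso_of_mono_of_epi ι
  rw [H25Euler.hilbPoly_unique hpE' (H25Euler.hilbPoly_congr (asIso ι) hpF)]
  exact (hmax G g hg hG hG0 p₀ pG hpF hpG).1

end Groth.Agent.H10Coh.StabBC
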