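import Groth.Agent.H10Coh.StabBC.Main
import Groth.Agent.H10Coh.Stab.BaseChange
import Groth.Agent.H22Alg.NakaiSemi
import Groth.Agent.H11Ample.AmpleOn

/-!
# Hilbert polynomials and semistability along cartesian squares over field extensions
-/

set_option autoImplicit false
set_option linter.style.haveILetI false
set_option linter.unusedSectionVars false

universe u

open CategoryTheory CategoryTheory.Limits AlgebraicGeometry Opposite TopologicalSpace Polynomial

namespace Groth.Agent.H10Coh.StabBC

open Groth.Agent.LeadBC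

theorem hilbPoly_congrL {k : Type u} [Field k] {X : Scheme.{u}} [X.Over (Spec (CommRingCat.of k))] {L L' : X.Modules}
    (e : L ≅ L') {F : X.Modules} {P : ℚ[X]} (hP : ShStab.IsHilbPoly k X L F P) : ShStab.IsHilbPoly k X L' F P :=
  fun m => by
    obtain ⟨em⟩ := H22Alg.NakaiSemi.nonempty_tensorPow_congr e m
    have e' : ShStab.twist X L F m ≅ ShStab.twist X L' F m :=
      eqToIso (H25Euler.tensorBi_obj_obj _ _).symm ≪≫ ((DCoh.tensorBi (X := X)).obj F).mapIso em ≪≫
        eqToIso (H25Euler.tensorBi_obj_obj _ _)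
    rw [← H25Euler.euler_congr e']
    exact hP m

theorem isSemistable_congrL {k : Type u} [Field k] {X : Scheme.{u}} [X.Over (Spec (CommRingCat.of k))]
    {L L' : X.Modules} (e : L ≅ L') {E : X.Modules} {d : ℕ} (h : ShStab.IsSemistable k X L E d) :
    ShStab.IsSemistable k X L' E d :=
  ⟨h.1, h.2.1, h.2.2.1, fun F ι hι hF h0 hi pF pE hpF hpE =>
    h.2.2.2 F ι hι hF h0 hi pF pE (hilbPoly_congrL e.symm hpF) (hilbPoly_congrL e.symm hpE)⟩

variable {k K : Type u} [Field k] [Field K] [Algebra k K] {X : Scheme.{u}} [X.Over (Spec (CommRingCat.of k))]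
  [IsProper (X ↘ Spec (CommRingCat.of k))] {X' : Scheme.{u}} [X'.Over (Spec (CommRingCat.of K))] {q : X' ⟶ X}
  (hsq : IsPullback q (X' ↘ Spec (CommRingCat.of K)) (X ↘ Spec (CommRingCat.of k))
    (Spec.map (CommRingCat.ofHom (algebraMap k K))))
  {L E F : X.Modules} {d : ℕ}

include hsq

theorem hilbPoly_pullback (hL : CohB1.IsAmple L) (hF : Coh.IsCoh F) {P : ℚ[X]}
    (hP : ShStab.IsHilbPoly k X L F P) : ShStab.IsHilbPoly K X' (qF q L) (qF q F) P := by
  intro m
  obtain ⟨e₁⟩ := H11Ample.exists_iso_pullback_tensorPow q hL.1 m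
  let e : ShStab.twist X' (qF q L) (qF q F) m ≅ qF q (ShStab.twist X L F m) :=
    eqToIso (H25Euler.tensorBi_obj_obj _ _).symm ≪≫
      ((DCoh.tensorBi (X := X')).obj (qF q F)).mapIso e₁.symm ≪≫
      ((H16Derived.KFlat.Stalk.pullTensorLIso q (CohB1.tensorPow L m)).app F).symm ≪≫
      eqToIso (congrArg (Scheme.Modules.pullback q).obj (H25Euler.tensorBi_flip_obj F (CohB1.tensorPow L m)))
  rw [H25Euler.euler_congr e]
  exact (congrArg (fun z : ℤ => (z : ℚ)) (H28Int.FieldExt.euler_bc (k := k) K hsq (F := ShStab.twist X L F m)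
    (H11Ample.isCoh_tensor hF (H11Ample.isInvertible_tensorPow hL.1 m)))).trans (hP m)

omit [IsProper (X ↘ Spec (CommRingCat.of k))] in
theorem surjective_pullback : Function.Surjective q.base := by
  haveI : Surjective (Spec.map (CommRingCat.ofHom (algebraMap k K))) :=
    ⟨fun p => ⟨⟨⊥, Ideal.isPrime_bot⟩, Subsingleton.elim (α := PrimeSpectrum k) _ _⟩⟩
  exact (MorphismProperty.of_isPullback (P := @Surjective) hsq.flip inferInstance).surj

omit [IsProper (X ↘ Spec (CommRingCat.of k))] in
theorem not_isZero_pullback (hF : Coh.IsCoh F) (h0 : ¬ IsZero F) : ¬ IsZero (qF q F) := fun h => by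
  obtain ⟨x, hx⟩ := H25Euler.support_nonempty h0
  obtain ⟨y, rfl⟩ := surjective_pullback hsq x
  have hy : y ∈ CohB1.support ((Scheme.Modules.pullback q).obj F) := by
    rw [LeadProper.support_pullback (hF := hF.1) (hft := hF.2)]; exact hx
  rw [Stab.support_eq_empty_of_isZero h] at hy
  exact hy

omit [IsProper (X ↘ Spec (CommRingCat.of k))] in
theorem mono_pullback (ι : F ⟶ E) [Mono ι] : Mono ((Scheme.Modules.pullback q).map ι) := by
  haveI : AlgebraicGeometry.Flat (Spec.map (CommRingCat.ofHom (algebraMap k K))) :=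
    (HasRingHomProperty.Spec_iff (P := @AlgebraicGeometry.Flat)).2 (RingHom.flat_algebraMap_iff.2 inferInstance)
  haveI : AlgebraicGeometry.Flat q :=
    MorphismProperty.of_isPullback (P := @AlgebraicGeometry.Flat) hsq.flip inferInstance
  haveI := H16Derived.KFlat.Stalk.preservesFiniteLimits_pullback_of_flat q
  infer_instance

theorem isProper_pullback : IsProper (X' ↘ Spec (CommRingCat.of K)) :=
  MorphismProperty.of_isPullback (P := @IsProper) hsq inferInstance

omit [IsProper (X ↘ Spec (CommRingCat.of k))] in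
theorem isAmple_pullback (hL : CohB1.IsAmple L) : CohB1.IsAmple (qF q L) := by
  haveI := Groth.Agent.LeadFF.isAffineHom_fst hsq
  exact H11Ample.isAmple_pullback_of_isAffineHom q hL

/-- Semistability descends along extensions of the ground field. -/
theorem isSemistable_of_pullback (hL : CohB1.IsAmple L) (hE : Coh.IsCoh E) (hp : ShStab.IsPure X E d)
    (hK : ShStab.IsSemistable K X' (qF q L) (qF q E) d) : ShStab.IsSemistable k X L E d := by
  refine ⟨hE, fun h => hK.2.1 ((Scheme.Modules.pullback q).map_isZero h), hp,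
    fun G ι hι hG hG0 _ pG pE hpG hpE => ?_⟩
  haveI := hι
  haveI := isProper_pullback hsq
  haveI := mono_pullback hsq ι
  have hG' := hilbPoly_pullback hsq hL hG hpG
  have hE' := hilbPoly_pullback hsq hL hE hpE
  by_cases hi : IsIso ((Scheme.Modules.pullback q).map ι)
  · rw [H25Euler.hilbPoly_unique hG'
      (H25Euler.hilbPoly_congr (asIso ((Scheme.Modules.pullback q).map ι)).symm hE')]
    exact Stab.redLE_of_redEq (Stab.redEq_refl _ _)
  · exact hK.2.2.2 _ _ inferInstance (H17.ConsProp.isCoh_pullback _ hG) (not_isZero_pullback hsq hG hG0) hi pG pE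
      hG' hE'

end Groth.Agent.H10Coh.StabBC
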