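import Groth.Agent.H10Coh.StabBC.Ext
import Groth.Agent.H10Coh.Stab.KerCoker
import Groth.Agent.H10Coh.Stab.Simple
import Groth.Agent.H10Coh.Stab.Mu
import Mathlib.FieldTheory.IsAlgClosed.AlgebraicClosure

/-!
# Simple stable sheaves are geometrically stable
-/

set_option autoImplicit false
set_option linter.style.haveILetI false
set_option linter.unusedSectionVars false
set_option backward.isDefEq.respectTransparency.types false

universe u

open CategoryTheory CategoryTheory.Limits AlgebraicGeometry Opposite TopologicalSpace Polynomial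

namespace Groth.Agent.H10Coh.StabBC

open Groth.Agent.LeadBC StabCat

section Descent

variable {k K : Type u} [Field k] [Field K] [Algebra k K] {X : Scheme.{u}} [X.Over (Spec (CommRingCat.of k))]
  [IsProper (X ↘ Spec (CommRingCat.of k))] {X' : Scheme.{u}} [X'.Over (Spec (CommRingCat.of K))] {q : X' ⟶ X}
  (hsq : IsPullback q (X' ↘ Spec (CommRingCat.of K)) (X ↘ Spec (CommRingCat.of k))
    (Spec.map (CommRingCat.ofHom (algebraMap k K))))
  {L E : X.Modules} {d : ℕ}

include hsq

/-- Purity descends. -/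
theorem isPure_of_pullback (hL : CohB1.IsAmple L) (hp : ShStab.IsPure X' (qF q E) d) : ShStab.IsPure X E d := by
  intro F i hi hF hF0
  haveI := hi
  haveI := isProper_pullback hsq
  haveI := Stab.isNoetherian_of_ample (Z := X) k hL
  haveI := mono_pullback hsq i
  have hqF : Coh.IsCoh (qF q F) := H17.ConsProp.isCoh_pullback q hF
  obtain ⟨m, hm⟩ := exists_dim_lt k X
  have hmF : topologicalKrullDim (CohB1.support F) < (m : WithBot ℕ∞) :=
    (topologicalKrullDim_subspace_le X _).trans_lt hm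
  obtain ⟨p, hpF⟩ := H25Euler.exists_hilbPoly (k := k) hL hF hmF
  obtain ⟨e, he⟩ := exists_dim_eq hF0 hmF
  have hd := hp _ _ (mono_pullback hsq i) hqF (not_isZero_pullback hsq hF hF0)
  have h1 := (Stab.degree_hilbPoly hL hF he hpF).1
  have h2 := (Stab.degree_hilbPoly (k := K) (isAmple_pullback hsq hL) hqF hd (hilbPoly_pullback hsq hL hF hpF)).1
  rw [he, h1.symm.trans h2]

/-- Stability descends. -/
theorem isStable_of_pullback (hL : CohB1.IsAmple L) (hE : Coh.IsCoh E)
    (hK : ShStab.IsStable K X' (qF q L) (qF q E) d) : ShStab.IsStable k X L E d := by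
  have hp := isPure_of_pullback hsq hL hK.2.2.1
  refine ⟨hE, fun h => hK.2.1 ((Scheme.Modules.pullback q).map_isZero h), hp,
    fun G ι hι hG hG0 hni pG pE hpG hpE => ?_⟩
  haveI := hι
  haveI := isProper_pullback hsq
  haveI := mono_pullback hsq ι
  have hG' := hilbPoly_pullback hsq hL hG hpG
  have hE' := hilbPoly_pullback hsq hL hE hpE
  refine hK.2.2.2 (qF q G) ((Scheme.Modules.pullback q).map ι) inferInstance (H17.ConsProp.isCoh_pullback _ hG) (not_isZero_pullback hsq hG hG0) ?_ pG pE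
    hG' hE'
  intro hi
  have hee := H25Euler.hilbPoly_unique hG' (H25Euler.hilbPoly_congr (asIso ((Scheme.Modules.pullback q).map ι)).symm hE')
  exact hni (Stab.isIso_of_mono_of_eq hL hG hE ι hpG (hee ▸ hpE))

end Descent

theorem isStable_congrL {k : Type u} [Field k] {X : Scheme.{u}} [X.Over (Spec (CommRingCat.of k))]
    {L L' : X.Modules} (e : L ≅ L') {E : X.Modules} {d : ℕ} (h : ShStab.IsStable k X L E d) :
    ShStab.IsStable k X L' E d :=
  ⟨h.1, h.2.1, h.2.2.1, fun F ι hι hF h0 hi pF pE hpF hpE =>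
    h.2.2.2 F ι hι hF h0 hi pF pE (hilbPoly_congrL e.symm hpF) (hilbPoly_congrL e.symm hpE)⟩

theorem exists_of_zero_aux {C : Type*} [Category C] [Abelian C] {G A T : C} (g : G ⟶ A) [Mono g] (t : T ⟶ A)
    (h : t ≫ cokernel.π g = 0) : ∃ l : T ⟶ G, l ≫ g = t := by
  have hker : IsLimit (KernelFork.ofι g (cokernel.condition g)) :=
    Abelian.monoIsKernelOfCokernel (CokernelCofork.ofπ (cokernel.π g) (cokernel.condition g)) (cokernelIsCokernel g)
  obtain ⟨l, hl⟩ := KernelFork.IsLimit.lift' hker t h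
  exact ⟨l, hl⟩

theorem twist_iso_comp {X X' : Scheme.{u}} {q : X' ⟶ X} {s : X' ⟶ X'} [IsIso s] (hs : s ≫ q = q) :
    inv s ≫ q = q := by rw [IsIso.inv_comp_eq, hs]

section AlgClosed

variable {k Ω : Type u} [Field k] [Field Ω] [Algebra k Ω] {X : Scheme.{u}} [X.Over (Spec (CommRingCat.of k))]
  [IsProper (X ↘ Spec (CommRingCat.of k))] {X' : Scheme.{u}} [X'.Over (Spec (CommRingCat.of Ω))] {q : X' ⟶ X}
  (hsq : IsPullback q (X' ↘ Spec (CommRingCat.of Ω)) (X ↘ Spec (CommRingCat.of k))
    (Spec.map (CommRingCat.ofHom (algebraMap k Ω))))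
  {L E : X.Modules} {d : ℕ}

include hsq

omit [IsProper (X ↘ Spec (CommRingCat.of k))] in
/-- The endomorphisms of the inverse image of a simple sheaf are scalars. -/
theorem endo_scalar [CompactSpace X] (hE : Coh.IsCoh E) (hsimple : ∀ φ : E ⟶ E, ∃ c : k, φ = Formal.smulMod k E c)
    (ψ : qF q E ⟶ qF q E) : ∃ c : Ω, ψ = Formal.smulMod Ω (qF q E) c := by
  haveI := hE.1
  obtain ⟨n, c, φ, hψ⟩ := H23KS.exists_span hsq hE.2 ψ
  choose a ha using fun i => hsimple (φ i)
  refine ⟨∑ i, c i * algebraMap k Ω (a i), ?_⟩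
  apply ((Scheme.Modules.pullbackPushforwardAdjunction q).homEquiv E (qF q E)).injective
  refine H23KS.hom_ext_affine fun V hV m => ?_
  rw [Adjunction.homEquiv_unit, Adjunction.homEquiv_unit]
  show H23KS.evalAt (q ⁻¹ᵁ V) (OmegaSh.pullSect q E V m) ψ =
    sc (X := X') Ω (q ⁻¹ᵁ V) (∑ i, c i * algebraMap k Ω (a i)) • OmegaSh.pullSect q E V m
  rw [hψ, map_sum, map_sum, Finset.sum_smul]
  refine Finset.sum_congr rfl fun i _ => ?_
  show sc (X := X') Ω (q ⁻¹ᵁ V) (c i) •
    ((Scheme.Modules.pullback q).map (φ i)).app (q ⁻¹ᵁ V) (OmegaSh.pullSect q E V m) = _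
  rw [← H17.PullSect.pullSect_natural, map_mul, mul_smul, ha i]
  refine congrArg (sc (X := X') Ω (q ⁻¹ᵁ V) (c i) • ·) ?_
  show OmegaSh.pullSect q E V (sc (X := X) k V (a i) • m) = _
  rw [OmegaSh.pullSect_smul, Groth.Agent.LeadFF.app_scal hsq]

variable [IsAlgClosed Ω]

/-- An extension of a simple stable sheaf to an algebraically closed field is stable. -/
theorem isStable_pullback_of_isAlgClosed (hL : CohB1.IsAmple L) (hE : ShStab.IsStable k X L E d)
    (hsimple : ∀ φ : E ⟶ E, ∃ c : k, φ = Formal.smulMod k E c) :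
    ShStab.IsStable Ω X' (qF q L) (qF q E) d := by
  classical
  haveI := isProper_pullback hsq
  haveI := Stab.isLocallyNoetherian_of_proper (Z := X) k
  haveI := Stab.isLocallyNoetherian_of_proper (Z := X') Ω
  haveI : CompactSpace X := hL.2.1
  have hL' := isAmple_pullback hsq hL
  haveI := Stab.isNoetherian_of_ample (Z := X') Ω hL'
  have hss := isSemistable_pullback_of_isAlgClosed hsq hL (Stab.isSemistable_of_isStable hE)
  obtain ⟨pE, hpE⟩ := Stab.exists_hilb_self (k := k) hL hE.2.2.1 hE.1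
  have hpE' := hilbPoly_pullback hsq hL hE.1 hpE
  have hE' := hss.1
  have hp' := hss.2.2.1
  have hαE := Stab.alpha_pos_of_pure hL' hp' hE' hss.2.1 hpE'
  by_contra hnst
  -- a proper submodule with the same reduced polynomial
  obtain ⟨F, i, pF, hi, hF, hF0, hFi, hpF, hxF⟩ : ∃ (F : X'.Modules) (i : F ⟶ qF q E) (pF : ℚ[X]), Mono i ∧
      Coh.IsCoh F ∧ ¬ IsZero F ∧ ¬ IsIso i ∧ ShStab.IsHilbPoly Ω X' (qF q L) F pF ∧ Stab.cross d pF pE = 0 := by
    by_contra hc
    refine hnst ⟨hE', hss.2.1, hp', fun G g hg hG hG0 hgi pG pE₂ hpG hpE₂ => ?_⟩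
    obtain rfl := H25Euler.hilbPoly_unique hpE' hpE₂
    rcases (Stab.redLE_iff.1 (hss.2.2.2 G g hg hG hG0 hgi pG pE hpG hpE₂)).eq_zero_or_pos with h | h
    · exact absurd ⟨G, g, pG, hg, hG, hG0, hgi, hpG, h⟩ hc
    · exact Stab.redLT_iff.2 h
  haveI := hi
  -- a stable quotient
  let P₁ : ∀ N : X'.Modules, (N ⟶ qF q E) → Prop := fun N n => Mono n ∧ Coh.IsCoh N ∧ ¬ IsIso n ∧ ¬ IsZero N ∧
    ∀ p, ShStab.IsHilbPoly Ω X' (qF q L) N p → Stab.cross d p pE = 0
  obtain ⟨M, m, ⟨hm, hM, hmi, hM0, hMx⟩, hMmax⟩ := LeadDev.exists_maximal_sub (qF q E) hE' P₁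
    (fun N n h => ⟨h.1, h.2.1⟩)
    ⟨F, i, hi, hF, hFi, hF0, fun p hp => H25Euler.hilbPoly_unique hpF hp ▸ hxF⟩
  haveI := hm
  obtain ⟨pM, hpM⟩ := Stab.exists_hilb_of_mono (k := Ω) hL' hp' hE' m hM
  have hQ0 : ¬ IsZero (cokernel m) := fun h => hmi (by
    haveI : Epi m := Preadditive.epi_of_isZero_cokernel _ h
    exact isIso_of_mono_of_epi m)
  obtain ⟨hQss, hQx⟩ := Stab.isSemistable_quot hL' hss m hM hQ0 hpM hpE' (hMx _ hpM)
  have hpQ := (H25Euler.polyLE_of_mono hL' hM hE' m hpM hpE').2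
  have hαQ := Stab.alpha_pos_of_pure hL' hQss.2.2.1 hQss.1 hQss.2.1 hpQ
  have hQst : ShStab.IsStable Ω X' (qF q L) (cokernel m) d := by
    refine ⟨hQss.1, hQss.2.1, hQss.2.2.1, fun T t ht hT hT0 hti pT pQ hpT hpQ₂ => ?_⟩
    obtain rfl := H25Euler.hilbPoly_unique hpQ hpQ₂
    rcases (Stab.redLE_iff.1 (hQss.2.2.2 T t ht hT hT0 hti pT _ hpT hpQ₂)).eq_zero_or_pos with h | h
    · exfalso
      haveI := ht
      obtain ⟨N, n, a, hn, hN, han, ⟨eN⟩, hpN⟩ := Stab.exists_preimage hL' hp' hE' m hM t hT hpM hpT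
      haveI := hn
      haveI : Mono a := mono_of_mono_fac han
      have hP : P₁ N n := by
        refine ⟨hn, hN, fun hni => hti ?_, fun h0 => hM0 (IsZero.of_mono a h0), fun p hp => ?_⟩
        · have h1 := H25Euler.hilbPoly_unique hpN (H25Euler.hilbPoly_congr (asIso n).symm hpE')
          exact Stab.isIso_of_mono_of_eq hL' hT hQss.1 t hpT
            (show ShStab.IsHilbPoly Ω X' (qF q L) (cokernel m) pT by
              rw [show pT = pE - pM by linear_combination h1]; exact hpQ)
        · rw [H25Euler.hilbPoly_unique hp hpN, Stab.cross_add, hMx _ hpM, zero_add,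
            Stab.cross_eq_zero_trans hαQ.ne' h hQx]
      haveI : Epi a := hMmax N n a hP han
      exact hT0 ((isZero_cokernel_of_epi a).of_iso eN.symm)
    · exact Stab.redLT_iff.2 h
  -- the stable subsheaves with the reduced polynomial of `E'`
  let Φ : X'.Modules → Prop := fun F => ∃ t : F ⟶ qF q E, Mono t ∧ ShStab.IsStable Ω X' (qF q L) F d ∧
    ∀ p, ShStab.IsHilbPoly Ω X' (qF q L) F p → Stab.cross d p pE = 0
  let Perp : X'.Modules → Prop := fun C => ∀ F, Φ F → ∀ φ : F ⟶ C, φ = 0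
  have hQperp : Perp (cokernel m) := by
    intro F' ⟨t, ht, hst, hx⟩ φ
    by_contra hφ
    haveI := ht
    obtain ⟨p', hp'F⟩ := Stab.exists_hilb_of_mono (k := Ω) hL' hp' hE' t hst.1
    have heq : RedEq d p' (pE - pM) := Stab.redEq_iff.2 (Stab.cross_eq_zero_trans hαE.ne' (hx _ hp'F)
      (by rw [Stab.cross_swap, hQx, neg_zero]))
    haveI := Stab.mono_of_isStable hL' hst hQss hp'F hpQ heq φ hφ
    haveI := Stab.epi_of_isStable hL' (Stab.isSemistable_of_isStable hst) hQst hp'F hpQ heq φ hφ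
    haveI := isIso_of_mono_of_epi φ
    obtain ⟨c, hc⟩ := endo_scalar hsq hE.1 hsimple (cokernel.π m ≫ inv φ ≫ t)
    have hm0 : m = 0 := by
      by_cases hc0 : c = 0
      · exfalso
        refine hst.2.1 (IsZero.of_mono_eq_zero t ?_)
        have hz : Formal.smulMod Ω (qF q E) (0 : Ω) = 0 :=
          Groth.Agent.LeadFF.hom_ext_sections _ _ fun U s => by
            show Groth.Agent.LeadFF.scal _ U (0 : Ω) • s = 0
            rw [map_zero, zero_smul]
        rw [hc0, hz] at hc
        have : inv φ ≫ t = 0 := by rw [← cancel_epi (cokernel.π m), hc, Limits.comp_zero]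
        rw [← IsIso.hom_inv_id_assoc φ t, this, Limits.comp_zero]
      · haveI : Mono (Formal.smulMod Ω (qF q E) c) := by
          refine mono_of_mono_fac (show Formal.smulMod Ω (qF q E) c ≫ Formal.smulMod Ω (qF q E) c⁻¹ = 𝟙 _ from ?_)
          rw [Groth.Agent.LeadFF.smulMod_mul, inv_mul_cancel₀ hc0]
          refine Groth.Agent.LeadFF.hom_ext_sections _ _ fun U s => ?_
          show Groth.Agent.LeadFF.scal _ U (1 : Ω) • s = s
          rw [map_one, one_smul]
        rw [← cancel_mono (Formal.smulMod Ω (qF q E) c), ← hc, cokernel.condition_assoc, Limits.zero_comp,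
          Limits.zero_comp]
    exact hM0 (IsZero.of_mono_eq_zero m hm0)
  -- the least submodule with perpendicular quotient
  let Cand : ∀ G : X'.Modules, (G ⟶ qF q E) → ℚ[X] → Prop := fun G g pG => Mono g ∧ Coh.IsCoh G ∧
    ShStab.IsHilbPoly Ω X' (qF q L) G pG ∧ Stab.cross d pG pE = 0 ∧ Perp (cokernel g)
  have hnat : ∀ G g pG, Cand G g pG → ∃ n : ℕ, alpha d pG = n := by
    rintro G g pG ⟨hg, hG, hpG, -, -⟩
    haveI := hg
    obtain ⟨z, hz⟩ := Stab.exists_int_alpha_hilb hL' (Stab.isPure_of_mono hp' g) hG hpG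
    have hpos := Stab.alpha_nonneg hL' (Stab.isPure_of_mono hp' g) hG hpG
    rw [hz, Int.cast_nonneg_iff] at hpos
    obtain ⟨n, rfl⟩ := Int.eq_ofNat_of_zero_le hpos
    exact ⟨n, by rw [hz]; norm_cast⟩
  have hC₀ : Cand M m pM := ⟨hm, hM, hpM, hMx _ hpM, hQperp⟩
  have hex : ∃ n : ℕ, ∃ G g pG, Cand G g pG ∧ alpha d pG = n :=
    ⟨(hnat _ _ _ hC₀).choose, M, m, pM, hC₀, (hnat _ _ _ hC₀).choose_spec⟩
  obtain ⟨G, g, pG, hCG, hαG⟩ := Nat.find_spec hex
  obtain ⟨hg, hG, hpG, hxG, hGperp⟩ := hCG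
  haveI := hg
  have hle : ∀ G' g' pG', Cand G' g' pG' → ∃ l : G ⟶ G', l ≫ g' = g := by
    rintro G' g' pG' ⟨hg', hG', hpG', hxG', hG'perp⟩
    haveI := hg'
    let π₂ := biprod.lift (cokernel.π g) (cokernel.π g')
    let A := Subobject.mk g
    let B := Subobject.mk g'
    have hkA : kernel.ι π₂ ≫ cokernel.π g = 0 := by
      have h := congrArg (· ≫ (biprod.fst : cokernel g ⊞ cokernel g' ⟶ _)) (kernel.condition π₂)
      simpa only [π₂, Category.assoc, biprod.lift_fst, Limits.zero_comp] using h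
    have hkB : kernel.ι π₂ ≫ cokernel.π g' = 0 := by
      have h := congrArg (· ≫ (biprod.snd : cokernel g ⊞ cokernel g' ⟶ _)) (kernel.condition π₂)
      simpa only [π₂, Category.assoc, biprod.lift_snd, Limits.zero_comp] using h
    have hkerg : IsLimit (KernelFork.ofι g (cokernel.condition g)) :=
      Abelian.monoIsKernelOfCokernel (CokernelCofork.ofπ (cokernel.π g) (cokernel.condition g)) (cokernelIsCokernel g)
    have hkerg' : IsLimit (KernelFork.ofι g' (cokernel.condition g')) :=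
      Abelian.monoIsKernelOfCokernel (CokernelCofork.ofπ (cokernel.π g') (cokernel.condition g')) (cokernelIsCokernel g')
    obtain ⟨κ, hκ⟩ := KernelFork.IsLimit.lift' hkerg (kernel.ι π₂) hkA
    obtain ⟨κ', hκ'⟩ := KernelFork.IsLimit.lift' hkerg' (kernel.ι π₂) hkB
    change κ ≫ g = kernel.ι π₂ at hκ
    change κ' ≫ g' = kernel.ι π₂ at hκ'
    have hinf : A ⊓ B = Subobject.mk (kernel.ι π₂) := by
      refine le_antisymm ?_ (le_inf (Subobject.mk_le_mk_of_comm κ hκ) (Subobject.mk_le_mk_of_comm κ' hκ'))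
      refine Subobject.le_mk_of_comm (kernel.lift π₂ (A ⊓ B).arrow ?_) (kernel.lift_ι _ _ _)
      refine biprod.hom_ext _ _ ?_ ?_
      · rw [Category.assoc, biprod.lift_fst, Limits.zero_comp, ← Subobject.ofLE_arrow (inf_le_left : A ⊓ B ≤ A),
          ← Subobject.underlyingIso_hom_comp_eq_mk g, Category.assoc, Category.assoc, cokernel.condition,
          Limits.comp_zero, Limits.comp_zero]
      · rw [Category.assoc, biprod.lift_snd, Limits.zero_comp, ← Subobject.ofLE_arrow (inf_le_right : A ⊓ B ≤ B),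
          ← Subobject.underlyingIso_hom_comp_eq_mk g', Category.assoc, Category.assoc, cokernel.condition,
          Limits.comp_zero, Limits.comp_zero]
    have hgood : ∀ {N : X'.Modules} (n : N ⟶ qF q E) [Mono n] (p : ℚ[X]), Coh.IsCoh N →
        ShStab.IsHilbPoly Ω X' (qF q L) N p → Stab.cross d p pE = 0 → Stab.Good Ω (qF q L) d pE (Subobject.mk n) :=
      fun n _ p hN hp hx => ⟨H10Coh.isCoh_of_iso (Subobject.underlyingIso n).symm hN, fun p' hp' => by
        rw [H25Euler.hilbPoly_unique hp' (H25Euler.hilbPoly_congr (Subobject.underlyingIso n).symm hp)]; exact hx⟩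
    obtain ⟨-, hKc, hKx⟩ := Stab.good_sup_inf hL' hss hpE' (hgood g pG hG hpG hxG) (hgood g' pG' hG' hpG' hxG')
    rw [hinf] at hKc hKx
    have hK := H10Coh.isCoh_of_iso (Subobject.underlyingIso (kernel.ι π₂)) hKc
    obtain ⟨pK, hpK⟩ := Stab.exists_hilb_of_mono (k := Ω) hL' hp' hE' (kernel.ι π₂) hK
    have hxK := hKx _ (H25Euler.hilbPoly_congr (Subobject.underlyingIso (kernel.ι π₂)).symm hpK)
    have hKperp : Perp (cokernel (kernel.ι π₂)) := by
      intro F' hF' φ
      let j : cokernel (kernel.ι π₂) ⟶ cokernel g ⊞ cokernel g' :=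
        cokernel.desc _ π₂ (kernel.condition π₂)
      haveI : Mono j := by
        rw [show j = (Abelian.coimageIsoImage π₂).hom ≫ Abelian.image.ι π₂ from coequalizer.hom_ext (by
          rw [cokernel.π_desc]
          exact (Abelian.coimage_image_factorisation π₂).symm)]
        infer_instance
      rw [← cancel_mono j, Limits.zero_comp]
      exact biprod.hom_ext _ _ ((hGperp F' hF' _).trans Limits.zero_comp.symm)
        ((hG'perp F' hF' _).trans Limits.zero_comp.symm)
    have hCK : Cand (kernel π₂) (kernel.ι π₂) pK := ⟨inferInstance, hK, hpK, hxK, hKperp⟩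
    obtain ⟨n, hn⟩ := hnat _ _ _ hCK
    have hge := Nat.find_min' hex ⟨_, _, pK, hCK, hn⟩
    haveI : Mono κ := mono_of_mono_fac hκ
    have hαeq : alpha d pK = alpha d pG := le_antisymm
      (Stab.alpha_le_of_mono hL' (Stab.isPure_of_mono hp' g) hG hK κ hpK hpG) (by
        rw [hαG, hn]; exact_mod_cast hge)
    have hpeq : pK = pG := by
      have h := congrArg₂ (· - ·) hxK hxG
      simp only [Stab.cross, hαeq] at h
      rw [sub_zero] at h
      have h' : alpha d pE • pG = alpha d pE • pK := by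
        rw [sub_sub_sub_cancel_left, sub_eq_zero] at h
        exact h
      exact ((smul_right_injective _ hαE.ne') h').symm
    haveI : IsIso κ := Stab.isIso_of_mono_of_eq hL' hK hG κ (hpeq ▸ hpK) hpG
    exact ⟨inv κ ≫ κ', by rw [Category.assoc, hκ', ← hκ, IsIso.inv_hom_id_assoc]⟩
  have hG0 : ¬ IsZero G := by
    obtain ⟨T, t, pT, ht, hT, hpT, hxT⟩ := Stab.exists_stable_sub (k := Ω) hL' hss hpE'
    intro h
    have h0 := hGperp T ⟨t, ht, hT, fun p hp => H25Euler.hilbPoly_unique hpT hp ▸ hxT⟩ (t ≫ cokernel.π g)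
    obtain ⟨l, hl⟩ := exists_of_zero_aux g t h0
    exact hT.2.1 (IsZero.of_mono_eq_zero t (by rw [← hl, h.eq_of_tgt l 0, Limits.zero_comp]))
  have hgi : ¬ IsIso g := by
    intro hgi
    obtain ⟨l, hl⟩ := hle _ _ _ hC₀
    haveI : Epi m := epi_of_epi_fac hl
    exact hmi (isIso_of_mono_of_epi m)
  have hC0 : ¬ IsZero (cokernel g) := fun h => hgi (by
    haveI : Epi g := Preadditive.epi_of_isZero_cokernel _ h
    exact isIso_of_mono_of_epi g)
  obtain ⟨hCss, hCx⟩ := Stab.isSemistable_quot hL' hss g hG hC0 hpG hpE' hxG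
  have hpC := (H25Euler.polyLE_of_mono hL' hG hE' g hpG hpE').2
  have hαG' := Stab.alpha_pos_of_pure hL' (Stab.isPure_of_mono hp' g) hG hG0 hpG
  obtain ⟨G₀, g₀, e, hg₀, hG₀, he⟩ := exists_descent hsq g hE.1 hG
    (fun φ => by
      by_contra hφ
      have hGss := Stab.isSemistable_sub hL' hss g hG hG0 hpG hpE' hxG
      have hred : RedEq d pG (pE - pG) := Stab.redEq_iff.2 (Stab.cross_eq_zero_trans hαE.ne' hxG
        (by rw [Stab.cross_swap, hCx, neg_zero]))
      obtain ⟨pK, hpK⟩ := Stab.exists_hilb_of_mono (k := Ω) hL' hp' hE' (kernel.ι φ ≫ g)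
        (H10Coh.isCoh_kernel φ hG hCss.1.1)
      have hxK : Stab.cross d pK pE = 0 := by
        rcases (Stab.kernel_cokernel_isSemistable hL' hGss hCss hpG hpC hred φ).1 with h | ⟨-, h⟩
        · rw [H25Euler.hilbPoly_unique hpK (H25Euler.hilbPoly_zero h), Stab.cross_zero_left]
        · exact Stab.cross_eq_zero_trans hαG'.ne' (Stab.redEq_iff.1 (h _ hpK)) hxG
      have hKperp : Perp (cokernel (kernel.ι φ ≫ g)) := by
        intro F' hF' ψ
        let π' := cokernel.π (kernel.ι φ ≫ g)
        let de : cokernel (kernel.ι φ ≫ g) ⟶ cokernel g :=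
          cokernel.desc _ (cokernel.π g) (by rw [Category.assoc, cokernel.condition, Limits.comp_zero])
        have h1 : (pullback.snd ψ π') ≫ cokernel.π g = 0 := by
          rw [show cokernel.π g = π' ≫ de from (cokernel.π_desc _ _ _).symm, ← Category.assoc, ← pullback.condition,
            Category.assoc, hGperp F' hF' (ψ ≫ de), Limits.comp_zero]
        obtain ⟨p, hp⟩ := exists_of_zero_aux g (pullback.snd ψ π') h1
        obtain ⟨r, hr⟩ := exists_of_zero_aux (kernel.ι φ ≫ g) (kernel.ι (pullback.fst ψ π') ≫ pullback.snd ψ π') (by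
          rw [Category.assoc, ← pullback.condition, ← Category.assoc, kernel.condition, Limits.zero_comp])
        have h2 : kernel.ι (pullback.fst ψ π') ≫ p ≫ φ = 0 := by
          have h3 : r ≫ kernel.ι φ = kernel.ι (pullback.fst ψ π') ≫ p := by
            rw [← cancel_mono g, Category.assoc, hr, Category.assoc, hp]
          rw [← Category.assoc, ← h3, Category.assoc, kernel.condition, Limits.comp_zero]
        have h4 : p ≫ φ = 0 := by
          rw [← Abelian.comp_epiDesc (pullback.fst ψ π') (p ≫ φ) h2, hGperp F' hF' (Abelian.epiDesc (pullback.fst ψ π') (p ≫ φ) h2),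
            Limits.comp_zero]
        rw [← cancel_epi (pullback.fst ψ π'), Limits.comp_zero, pullback.condition, ← hp,
          ← kernel.lift_ι φ p h4, Category.assoc, Category.assoc]
        show kernel.lift φ p h4 ≫ kernel.ι φ ≫ g ≫ cokernel.π (kernel.ι φ ≫ g) = 0
        rw [← Category.assoc (kernel.ι φ) g, cokernel.condition, Limits.comp_zero]
      obtain ⟨l, hl⟩ := hle _ _ pK ⟨mono_comp _ _, H10Coh.isCoh_kernel φ hG hCss.1.1, hpK, hxK, hKperp⟩
      refine hφ ?_
      have hl' : l ≫ kernel.ι φ = 𝟙 G := by rw [← cancel_mono g, Category.assoc, hl, Category.id_comp]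
      rw [← Category.id_comp φ, ← hl', Category.assoc, kernel.condition, Limits.comp_zero])
    (fun σ s hs_iso hs hσ => by
      haveI := hs_iso
      haveI := H16Derived.KFlat.Stalk.preservesFiniteLimits_pullback_of_flat s
      haveI := H16Derived.KFlat.Stalk.preservesFiniteLimits_pullback_of_flat (inv s)
      let g'' := (Scheme.Modules.pullback s).map g ≫ (twistIso hs E).hom
      let hback : ∀ M' : X'.Modules, qF (inv s) (qF s M') ≅ M' := fun M' =>
        (Scheme.Modules.pullbackComp (inv s) s).app M' ≪≫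
          (Scheme.Modules.pullbackCongr (IsIso.inv_hom_id s)).app M' ≪≫ (Scheme.Modules.pullbackId X').app M'
      let hforth : ∀ M' : X'.Modules, qF s (qF (inv s) M') ≅ M' := fun M' =>
        (Scheme.Modules.pullbackComp s (inv s)).app M' ≪≫
          (Scheme.Modules.pullbackCongr (IsIso.hom_inv_id s)).app M' ≪≫ (Scheme.Modules.pullbackId X').app M'
      have hcand : Cand (qF s G) g'' pG := by
        refine ⟨inferInstance, H17.ConsProp.isCoh_pullback s hG, hilbPoly_twist hsq hL σ hs hσ hG hpG, hxG, ?_⟩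
        intro F' hF' ψ
        obtain ⟨t, ht, hst, hx⟩ := hF'
        haveI := ht
        let F₀ := qF (inv s) F'
        let t₀ : F₀ ⟶ qF q E :=
          (Scheme.Modules.pullback (inv s)).map t ≫ (twistIso (twist_iso_comp hs) E).hom
        have hF₀ : Coh.IsCoh F₀ := H17.ConsProp.isCoh_pullback (inv s) hst.1
        obtain ⟨p₀, hp₀⟩ := Stab.exists_hilb_of_mono (k := Ω) hL' hp' hE' t₀ hF₀
        have hp₁ := H25Euler.hilbPoly_congr (hforth F') (hilbPoly_twist hsq hL σ hs hσ hF₀ hp₀)
        have hst₁ : ShStab.IsStable Ω X' (qF s (qF q L)) (qF s F₀) d :=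
          Stab.isStable_congr (hforth F').symm (isStable_congrL (twistIso hs L).symm hst)
        have hst₀ : ShStab.IsStable Ω X' (qF q L) F₀ d :=
          @isStable_of_pullback Ω Ω _ _ σ.toAlgHom.toRingHom.toAlgebra X' _ _ X' _ s hσ (qF q L) F₀ d hL' hF₀ hst₁
        have hΦ : Φ F₀ := ⟨t₀, inferInstance, hst₀, fun p hp => by
          rw [H25Euler.hilbPoly_unique hp hp₀]; exact hx _ hp₁⟩
        let eC : cokernel g'' ≅ qF s (cokernel g) :=
          cokernel.mapIso g'' ((Scheme.Modules.pullback s).map g) (Iso.refl _) (twistIso hs E).symm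
            (by simp [g'']) ≪≫ (PreservesCokernel.iso (Scheme.Modules.pullback s) g).symm
        have h0 : (Scheme.Modules.pullback (inv s)).map (ψ ≫ eC.hom) ≫ (hback (cokernel g)).hom = 0 :=
          hGperp F₀ hΦ _
        have h1 : (Scheme.Modules.pullback (inv s)).map (ψ ≫ eC.hom) = 0 := by
          rw [← cancel_mono (hback (cokernel g)).hom, h0, Limits.zero_comp]
        let η : Scheme.Modules.pullback (inv s) ⋙ Scheme.Modules.pullback s ≅ 𝟭 X'.Modules :=
          Scheme.Modules.pullbackComp s (inv s) ≪≫ Scheme.Modules.pullbackCongr (IsIso.hom_inv_id s) ≪≫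
            Scheme.Modules.pullbackId X'
        have h2 : ψ ≫ eC.hom = 0 := by
          have hn := η.hom.naturality (ψ ≫ eC.hom)
          simp only [Functor.comp_map, Functor.id_map] at hn
          rw [h1, Functor.map_zero, Limits.zero_comp] at hn
          rw [← cancel_epi (η.hom.app F'), Limits.comp_zero]
          exact hn.symm
        rw [← cancel_mono eC.hom, h2, Limits.zero_comp]
      obtain ⟨l, hl⟩ := hle _ _ _ hcand
      haveI : Mono l := mono_of_mono_fac hl
      haveI : IsIso l := Stab.isIso_of_mono_of_eq hL' hG hcand.2.1 l hpG hcand.2.2.1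
      exact ⟨inv l, by rw [IsIso.inv_comp_eq, hl]⟩)
  haveI := hg₀
  obtain ⟨p₀, hp₀⟩ := Stab.exists_hilb_of_mono (k := k) hL hE.2.2.1 hE.1 g₀ hG₀
  obtain rfl := H25Euler.hilbPoly_unique (H25Euler.hilbPoly_congr e (hilbPoly_pullback hsq hL hG₀ hp₀)) hpG
  have hg₀0 : ¬ IsZero G₀ := fun h => hG0 (((Scheme.Modules.pullback q).map_isZero h).of_iso e.symm)
  have hg₀i : ¬ IsIso g₀ := fun hi₀ => hgi (by
    haveI : IsIso (e.hom ≫ g) := by rw [he]; infer_instance
    exact IsIso.of_isIso_comp_left e.hom g)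
  exact (Stab.redLT_iff.1 (hE.2.2.2 G₀ g₀ inferInstance hG₀ hg₀0 hg₀i p₀ pE hp₀ hpE)).elim fun N hN => by
    have := hN N le_rfl
    rw [hxG] at this
    simp at this

end AlgClosed

section General

variable {k K : Type u} [Field k] [Field K] [Algebra k K] {X : Scheme.{u}} [X.Over (Spec (CommRingCat.of k))]
  [IsProper (X ↘ Spec (CommRingCat.of k))] {X' : Scheme.{u}} [X'.Over (Spec (CommRingCat.of K))] {q : X' ⟶ X}
  (hsq : IsPullback q (X' ↘ Spec (CommRingCat.of K)) (X ↘ Spec (CommRingCat.of k))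
    (Spec.map (CommRingCat.ofHom (algebraMap k K))))
  {L E : X.Modules} {d : ℕ}

include hsq

/-- Simple stable sheaves stay stable under extensions of the ground field. -/
theorem isStable_pullback (hL : CohB1.IsAmple L) (hE : ShStab.IsStable k X L E d)
    (hsimple : ∀ φ : E ⟶ E, ∃ c : k, φ = Formal.smulMod k E c) : ShStab.IsStable K X' (qF q L) (qF q E) d := by
  let Ω := AlgebraicClosure K
  let r := Curv2.bcFst K X' Ω
  haveI := isProper_pullback hsq
  have hr : IsPullback r (Curv2.bc K X' Ω ↘ Spec (CommRingCat.of Ω)) (X' ↘ Spec (CommRingCat.of K))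
      (Spec.map (CommRingCat.ofHom (algebraMap K Ω))) := IsPullback.of_hasPullback _ _
  have hc := isPullback_comp hsq Ω
  haveI : IsProper (Curv2.bc K X' Ω ↘ Spec (CommRingCat.of Ω)) := isProper_pullback hr
  have hL' := isAmple_pullback hsq hL
  have hE' : Coh.IsCoh (qF q E) := H17.ConsProp.isCoh_pullback q hE.1
  let eL : qF (r ≫ q) L ≅ qF r (qF q L) := ((Scheme.Modules.pullbackComp r q).app L).symm
  let eE : qF (r ≫ q) E ≅ qF r (qF q E) := ((Scheme.Modules.pullbackComp r q).app E).symm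
  exact isStable_of_pullback hr hL' hE'
    (Stab.isStable_congr eE (isStable_congrL eL (isStable_pullback_of_isAlgClosed hc hL hE hsimple)))

end General

/-- A simple stable sheaf is geometrically stable. -/
theorem isGeomStable_of_simple {k : Type u} [Field k] {X : Scheme.{u}} [X.Over (Spec (CommRingCat.of k))]
    [IsProper (X ↘ Spec (CommRingCat.of k))] {L E : X.Modules} {d : ℕ} (hL : CohB1.IsAmple L)
    (hE : ShStab.IsStable k X L E d) (hsimple : ∀ φ : E ⟶ E, ∃ c : k, φ = Formal.smulMod k E c) :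
    ShStab.IsGeomStable k X L E d := by
  intro K _ _
  letI : (Curv2.bc k X K).Over (Spec (CommRingCat.of K)) := ⟨Curv2.bcSnd k X K⟩
  exact isStable_pullback (q := Curv2.bcFst k X K) (IsPullback.of_hasPullback _ _) hL hE hsimple

end Groth.Agent.H10Coh.StabBC
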