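import Groth.Agent.H10Coh.StabBC.Alg
import Mathlib.FieldTheory.IsAlgClosed.AlgebraicClosure

/-!
# Semistability and Harder–Narasimhan filtrations under extensions of the ground field
-/

set_option autoImplicit false
set_option linter.style.haveILetI false
set_option linter.unusedSectionVars false

universe u

open CategoryTheory CategoryTheory.Limits AlgebraicGeometry Opposite TopologicalSpace Polynomial

namespace Groth.Agent.H10Coh.StabBC

open Groth.Agent.LeadBC StabCat

variable {k K : Type u} [Field k] [Field K] [Algebra k K] {X : Scheme.{u}} [X.Over (Spec (CommRingCat.of k))]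
  [IsProper (X ↘ Spec (CommRingCat.of k))] {X' : Scheme.{u}} [X'.Over (Spec (CommRingCat.of K))] {q : X' ⟶ X}
  (hsq : IsPullback q (X' ↘ Spec (CommRingCat.of K)) (X ↘ Spec (CommRingCat.of k))
    (Spec.map (CommRingCat.ofHom (algebraMap k K))))
  {L E : X.Modules} {d : ℕ}

include hsq

omit [IsProper (X ↘ Spec (CommRingCat.of k))] in
/-- Composition of base changes. -/
theorem isPullback_comp (Ω : Type u) [Field Ω] [Algebra k Ω] [Algebra K Ω] [IsScalarTower k K Ω] :
    IsPullback (Curv2.bcFst K X' Ω ≫ q) (Curv2.bc K X' Ω ↘ Spec (CommRingCat.of Ω)) (X ↘ Spec (CommRingCat.of k))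
      (Spec.map (CommRingCat.ofHom (algebraMap k Ω))) := by
  have h := (IsPullback.of_hasPullback (X' ↘ Spec (CommRingCat.of K))
    (Spec.map (CommRingCat.ofHom (algebraMap K Ω)))).paste_horiz hsq
  rw [← Spec.map_comp, ← CommRingCat.ofHom_comp, ← IsScalarTower.algebraMap_eq] at h
  exact h

/-- Semistability is preserved by extensions of the ground field. -/
theorem isSemistable_pullback (hL : CohB1.IsAmple L) (hE : ShStab.IsSemistable k X L E d) :
    ShStab.IsSemistable K X' (qF q L) (qF q E) d := by
  let Ω := AlgebraicClosure K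
  let r := Curv2.bcFst K X' Ω
  haveI := isProper_pullback hsq
  have hr : IsPullback r (Curv2.bc K X' Ω ↘ Spec (CommRingCat.of Ω)) (X' ↘ Spec (CommRingCat.of K))
      (Spec.map (CommRingCat.ofHom (algebraMap K Ω))) := IsPullback.of_hasPullback _ _
  have hc := isPullback_comp hsq Ω
  haveI : IsProper (Curv2.bc K X' Ω ↘ Spec (CommRingCat.of Ω)) := isProper_pullback hr
  have hL' := isAmple_pullback hsq hL
  have hE' : Coh.IsCoh (qF q E) := H17.ConsProp.isCoh_pullback q hE.1
  let eL : qF (r ≫ q) L ≅ qF r (qF q L) := ((Scheme.Modules.pullbackComp r q).app L).symm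
  let eE : qF (r ≫ q) E ≅ qF r (qF q E) := ((Scheme.Modules.pullbackComp r q).app E).symm
  have hss : ShStab.IsSemistable Ω (Curv2.bc K X' Ω) (qF r (qF q L)) (qF r (qF q E)) d :=
    Stab.isSemistable_congr eE (isSemistable_congrL eL (isSemistable_pullback_of_isAlgClosed hc hL hE))
  refine isSemistable_of_pullback hr hL' hE' (fun F i hi hF hF0 => ?_) hss
  haveI := hi
  haveI := Stab.isNoetherian_of_ample (Z := X') K hL'
  haveI := mono_pullback hr i
  have hrF : Coh.IsCoh (qF r F) := H17.ConsProp.isCoh_pullback r hF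
  obtain ⟨m, hm⟩ := exists_dim_lt K X'
  have hmF : topologicalKrullDim (CohB1.support F) < (m : WithBot ℕ∞) :=
    (topologicalKrullDim_subspace_le X' _).trans_lt hm
  obtain ⟨p, hp⟩ := H25Euler.exists_hilbPoly (k := K) hL' hF hmF
  have hp' := hilbPoly_pullback hr hL' hF hp
  obtain ⟨e, he⟩ := exists_dim_eq hF0 hmF
  have hd := hss.2.2.1 _ _ (mono_pullback hr i) hrF (not_isZero_pullback hr hF hF0)
  have h1 := (Stab.degree_hilbPoly hL' hF he hp).1
  have h2 := (Stab.degree_hilbPoly (k := Ω) (isAmple_pullback hr hL') hrF hd hp').1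
  rw [he, h1.symm.trans h2]

omit [IsProper (X ↘ Spec (CommRingCat.of k))] in
/-- The inverse image reflects inclusions of submodules. -/
theorem le_of_pullback_factors [E.IsQuasicoherent] {A B : Subobject E}
    [(Subobject.underlying.obj A).IsQuasicoherent] [(Subobject.underlying.obj B).IsQuasicoherent]
    (φ : qF q (Subobject.underlying.obj A) ⟶ qF q (Subobject.underlying.obj B))
    (hφ : φ ≫ (Scheme.Modules.pullback q).map B.arrow = (Scheme.Modules.pullback q).map A.arrow) : A ≤ B := by
  haveI : (cokernel B.arrow).IsQuasicoherent := H10Coh.isQuasicoherent_cokernel B.arrow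
  have h0 : A.arrow ≫ cokernel.π B.arrow = 0 := by
    refine H23KS.map_injective hsq _ ?_
    rw [Functor.map_comp, ← hφ, Category.assoc, ← Functor.map_comp, cokernel.condition, Functor.map_zero,
      Limits.comp_zero]
  have hker : IsLimit (KernelFork.ofι B.arrow (cokernel.condition B.arrow)) :=
    Abelian.monoIsKernelOfCokernel (CokernelCofork.ofπ (cokernel.π B.arrow) (cokernel.condition B.arrow))
      (cokernelIsCokernel B.arrow)
  obtain ⟨l, hl⟩ := KernelFork.IsLimit.lift' hker A.arrow h0
  exact Subobject.le_of_comm l hl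

/-- The inverse image of a Harder–Narasimhan filtration. -/
theorem exists_hn_pullback (hL : CohB1.IsAmple L) (hE : Coh.IsCoh E) {s : LTSeries (Subobject E)}
    (hs : ShStab.IsHNFiltration k X L E d s) :
    ∃ t : LTSeries (Subobject (qF q E)), ShStab.IsHNFiltration K X' (qF q L) (qF q E) d t ∧ t.length = s.length ∧
      ∀ (i : Fin (s.length + 1)) (j : Fin (t.length + 1)), i.val = j.val →
        ∃ e : Subobject.underlying.obj (t j) ≅ qF q (Subobject.underlying.obj (s i)),
          e.hom ≫ (Scheme.Modules.pullback q).map (s i).arrow = (t j).arrow := by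
  haveI := isProper_pullback hsq
  haveI : AlgebraicGeometry.Flat (Spec.map (CommRingCat.ofHom (algebraMap k K))) :=
    (HasRingHomProperty.Spec_iff (P := @AlgebraicGeometry.Flat)).2 (RingHom.flat_algebraMap_iff.2 inferInstance)
  haveI : AlgebraicGeometry.Flat q :=
    MorphismProperty.of_isPullback (P := @AlgebraicGeometry.Flat) hsq.flip inferInstance
  haveI := H16Derived.KFlat.Stalk.preservesFiniteLimits_pullback_of_flat q
  haveI := Stab.isLocallyNoetherian_of_proper (Z := X) k
  haveI := hE.1
  obtain ⟨hhead, hlast, hfac, hdec⟩ := hs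
  have hcoh : ∀ i, Coh.IsCoh (Subobject.underlying.obj (s i)) := by
    intro i
    induction i using Fin.reverseInduction with
    | last =>
      haveI : IsIso (s (Fin.last s.length)).arrow := by
        rw [show s (Fin.last s.length) = ⊤ from hlast]; infer_instance
      exact H10Coh.isCoh_of_iso (asIso (s (Fin.last s.length)).arrow).symm hE
    | cast i ih =>
      let f := Subobject.ofLE (s i.castSucc) (s i.succ) (le_of_lt (s.step i))
      have hker : IsLimit (KernelFork.ofι f (cokernel.condition f)) :=
        Abelian.monoIsKernelOfCokernel (CokernelCofork.ofπ (cokernel.π f) (cokernel.condition f)) (cokernelIsCokernel f)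
      exact H10Coh.isCoh_of_iso (IsLimit.conePointUniqueUpToIso (kernelIsKernel (cokernel.π f)) hker)
        (H10Coh.isCoh_kernel _ ih (hfac i).1.1)
  let T : Fin (s.length + 1) → Subobject (qF q E) := fun i =>
    haveI : Mono ((Scheme.Modules.pullback q).map (s i).arrow) := mono_pullback hsq _
    Subobject.mk ((Scheme.Modules.pullback q).map (s i).arrow)
  have hTmono : ∀ i, Mono ((Scheme.Modules.pullback q).map (s i).arrow) := fun i => mono_pullback hsq _
  have hlt : ∀ i : Fin s.length, T i.castSucc < T i.succ := by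
    intro i
    haveI := hTmono i.castSucc
    haveI := hTmono i.succ
    refine lt_of_le_of_ne (Subobject.mk_le_mk_of_comm
      ((Scheme.Modules.pullback q).map (Subobject.ofLE _ _ (le_of_lt (s.step i)))) ?_) fun h => ?_
    · rw [← Functor.map_comp, Subobject.ofLE_arrow]
    · haveI := (hcoh i.castSucc).1
      haveI := (hcoh i.succ).1
      refine not_le_of_gt (s.step i) (le_of_pullback_factors hsq (Subobject.ofMkLEMk _ _ h.ge) ?_)
      exact Subobject.ofMkLEMk_comp _
  let t : LTSeries (Subobject (qF q E)) := ⟨s.length, T, hlt⟩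
  have hfacIso : ∀ i : Fin s.length, Nonempty (factor t i ≅ qF q (factor s i)) := by
    intro i
    haveI := hTmono i.castSucc
    haveI := hTmono i.succ
    let e₁ := Subobject.underlyingIso ((Scheme.Modules.pullback q).map (s i.castSucc).arrow)
    let e₂ := Subobject.underlyingIso ((Scheme.Modules.pullback q).map (s i.succ).arrow)
    refine ⟨cokernel.mapIso _ ((Scheme.Modules.pullback q).map (Subobject.ofLE _ _ (le_of_lt (s.step i)))) e₁ e₂ ?_ ≪≫
      (PreservesCokernel.iso (Scheme.Modules.pullback q) _).symm⟩
    rw [← cancel_mono ((Scheme.Modules.pullback q).map (s i.succ).arrow), Category.assoc, Category.assoc,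
      ← Functor.map_comp, Subobject.ofLE_arrow]
    erw [Subobject.underlyingIso_hom_comp_eq_mk, Subobject.underlyingIso_hom_comp_eq_mk]
    exact Subobject.ofLE_arrow _
  refine ⟨t, ⟨?_, ?_, fun i => ?_, fun i j hij p p' hp hp' => ?_⟩, rfl, fun i j hij => ?_⟩
  · show T 0 = ⊥
    haveI := hTmono 0
    exact Subobject.mk_eq_bot_iff_zero.2 (by
      rw [show (s 0).arrow = 0 from Stab.arrow_eq_zero hhead, Functor.map_zero])
  · show T (Fin.last s.length) = ⊤
    haveI := hTmono (Fin.last s.length)
    haveI : IsIso (s (Fin.last s.length)).arrow := by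
      rw [show s (Fin.last s.length) = ⊤ from hlast]; infer_instance
    exact (Subobject.isIso_iff_mk_eq_top _).1 inferInstance
  · exact Stab.isSemistable_congr (hfacIso i).some.symm (isSemistable_pullback hsq hL (hfac i))
  · obtain ⟨a, ha⟩ := Stab.exists_hilb_self (k := k) hL (hfac i).2.2.1 (hfac i).1
    obtain ⟨b, hb⟩ := Stab.exists_hilb_self (k := k) hL (hfac j).2.2.1 (hfac j).1
    rw [H25Euler.hilbPoly_unique hp (H25Euler.hilbPoly_congr (hfacIso i).some.symm
        (hilbPoly_pullback hsq hL (hfac i).1 ha)),
      H25Euler.hilbPoly_unique hp' (H25Euler.hilbPoly_congr (hfacIso j).some.symm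
        (hilbPoly_pullback hsq hL (hfac j).1 hb))]
    exact hdec i j hij a b ha hb
  · obtain rfl : i = j := Fin.ext hij
    haveI := hTmono i
    exact ⟨Subobject.underlyingIso _, Subobject.underlyingIso_hom_comp_eq_mk _⟩

end Groth.Agent.H10Coh.StabBC
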