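import Mathlib.FieldTheory.IsAlgClosed.Classification
import Mathlib.FieldTheory.IsAlgClosed.AlgebraicClosure
import Mathlib.FieldTheory.PurelyInseparable.PerfectClosure
import Mathlib.FieldTheory.AlgebraicClosure
import Mathlib.FieldTheory.Normal.Basic
import Mathlib.RingTheory.Unramified.Field
import Mathlib.RingTheory.Kaehler.Basic
import Mathlib.RingTheory.AlgebraicIndependent.TranscendenceBasis

/-!
# Elements fixed by all automorphisms of an algebraically closed field; derivations
-/

set_option autoImplicit false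
set_option linter.style.haveILetI false

universe u

open Polynomial

namespace Groth.Agent.H10Coh.StabBC

variable {k L : Type u} [Field k] [Field L] [IsAlgClosed L] [Algebra k L]

/-- Automorphisms of a purely transcendental subfield extend. -/
theorem exists_extend {K : Type u} [Field K] [Algebra K L] {ι : Type u} {v : ι → L} (hv : IsTranscendenceBasis K v)
    (ψ : MvPolynomial ι K ≃+* MvPolynomial ι K) :
    ∃ σ : L ≃+* L, ∀ p, σ (MvPolynomial.aeval v p) = MvPolynomial.aeval v (ψ p) := by
  letI := IsAlgClosed.isAlgClosure_of_transcendence_basis v hv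
  let a := hv.1.aevalEquiv
  let e : Algebra.adjoin K (Set.range v) ≃+* Algebra.adjoin K (Set.range v) :=
    a.symm.toRingEquiv.trans (ψ.trans a.toRingEquiv)
  refine ⟨IsAlgClosure.equivOfEquiv L L e, fun p => ?_⟩
  have h := IsAlgClosure.equivOfEquiv_algebraMap L L e (a p)
  have h1 : e (a p) = a (ψ p) := by simp [e]
  rw [h1] at h
  have h2 : ∀ q, algebraMap (Algebra.adjoin K (Set.range v)) L (a q) = MvPolynomial.aeval v q :=
    fun q => hv.1.algebraMap_aevalEquiv q
  rw [h2, h2] at h
  exact h

theorem exists_algEquiv_ne_of_transcendental {c : L} (hc : Transcendental k c) : ∃ σ : L ≃ₐ[k] L, σ c ≠ c := by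
  classical
  have h0 : AlgebraicIndepOn k id ({c} : Set L) := (algebraicIndependent_singleton_iff (⟨c, rfl⟩ : ({c} : Set L))).2 hc
  obtain ⟨t, hct, ht⟩ := exists_isTranscendenceBasis_superset h0
  let i₀ : t := ⟨c, hct rfl⟩
  let f : MvPolynomial t k →ₐ[k] MvPolynomial t k :=
    MvPolynomial.aeval (fun i => if i = i₀ then MvPolynomial.X i + 1 else MvPolynomial.X i)
  let g : MvPolynomial t k →ₐ[k] MvPolynomial t k :=
    MvPolynomial.aeval (fun i => if i = i₀ then MvPolynomial.X i - 1 else MvPolynomial.X i)
  let ψ : MvPolynomial t k ≃ₐ[k] MvPolynomial t k := AlgEquiv.ofAlgHom f g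
    (MvPolynomial.algHom_ext fun i => by by_cases h : i = i₀ <;> simp [f, g, h])
    (MvPolynomial.algHom_ext fun i => by by_cases h : i = i₀ <;> simp [f, g, h])
  obtain ⟨σ, hσ⟩ := exists_extend ht ψ.toRingEquiv
  refine ⟨AlgEquiv.ofRingEquiv (f := σ) fun a => ?_, fun h => ?_⟩
  · have := hσ (MvPolynomial.C a)
    rw [show ψ.toRingEquiv (MvPolynomial.C a) = MvPolynomial.C a from ψ.commutes a, MvPolynomial.aeval_C] at this
    exact this
  · have := hσ (MvPolynomial.X i₀)
    rw [show ψ.toRingEquiv (MvPolynomial.X i₀) = MvPolynomial.X i₀ + 1 by simp [ψ, f], map_add,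
      MvPolynomial.aeval_X, map_one] at this
    change σ c = c + 1 at this
    rw [show σ c = c from h] at this
    exact one_ne_zero (add_left_cancel (a := c) (by rw [add_zero]; exact this.symm))

/-- Elements fixed by all automorphisms are purely inseparable. -/
theorem mem_perfectClosure_of_fixed {c : L} (h : ∀ σ : L ≃ₐ[k] L, σ c = c) : c ∈ perfectClosure k L := by
  classical
  by_cases hc : Transcendental k c
  · obtain ⟨σ, hσ⟩ := exists_algEquiv_ne_of_transcendental hc
    exact absurd (h σ) hσ
  have hint : IsIntegral k c := (not_not.1 hc).isIntegral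
  rw [mem_perfectClosure_iff_natSepDegree_eq_one, natSepDegree_eq_of_isAlgClosed L, Finset.card_eq_one]
  refine ⟨c, Finset.eq_singleton_iff_unique_mem.2 ⟨?_, fun c' hc' => ?_⟩⟩
  · simp [minpoly.ne_zero hint]
  rw [Multiset.mem_toFinset, mem_aroots] at hc'
  let K := algebraicClosure k L
  have hcK : c ∈ K := mem_algebraicClosure_iff.2 hint.isAlgebraic
  have hcK' : c' ∈ K := mem_algebraicClosure_iff.2 ⟨_, minpoly.ne_zero hint, hc'.2⟩
  haveI : IsAlgClosure k K := algebraicClosure.isAlgClosure k L
  haveI : Normal k K := IsAlgClosure.normal k K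
  obtain ⟨σ₀, hσ₀⟩ := minpoly.exists_algEquiv_of_root' (K := k) (L := K) (x := ⟨c', hcK'⟩) (y := ⟨c, hcK⟩)
    (Algebra.IsAlgebraic.isAlgebraic _) (by
      apply Subtype.val_injective
      rw [IntermediateField.minpoly_eq, ← IntermediateField.aeval_coe, hc'.2]
      rfl)
  obtain ⟨t, ht⟩ := exists_isTranscendenceBasis K L
  obtain ⟨σ, hσ⟩ := exists_extend ht (MvPolynomial.mapEquiv t σ₀.toRingEquiv)
  have hC : ∀ a : K, σ (a : L) = (σ₀ a : L) := fun a => by
    have := hσ (MvPolynomial.C a)
    simpa [MvPolynomial.mapEquiv_apply] using this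
  let σ' : L ≃ₐ[k] L := AlgEquiv.ofRingEquiv (f := σ) fun a =>
    (hC (algebraMap k K a)).trans (congrArg Subtype.val (σ₀.commutes a))
  have := h σ'
  change σ c = c at this
  rw [hC ⟨c, hcK⟩, hσ₀] at this
  exact this

omit [IsAlgClosed L] in
/-- A nontrivial finite purely inseparable extension has a nonzero derivation, extended linearly. -/
theorem exists_derivation (F : IntermediateField k L) [FiniteDimensional k F] [IsPurelyInseparable k F]
    (hF : F ≠ ⊥) : ∃ (F₀ : IntermediateField k L) (f : L →ₗ[k] L), F₀ < F ∧ f 1 = 0 ∧ (∀ c ∈ F, f c ∈ F) ∧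
      (∀ c ∈ F, f c = 0 → c ∈ F₀) ∧ ∀ x ∈ F, ∀ y : L, f (x * y) = f x * y + x * f y := by
  classical
  haveI : Algebra.EssFiniteType k F := inferInstance
  have hns : ¬ Algebra.FormallyUnramified k F := fun hu => by
    haveI := (Algebra.FormallyUnramified.iff_isSeparable k F).1 hu
    exact hF (IntermediateField.eq_bot_of_isPurelyInseparable_of_isSeparable F)
  have hΩ : Nontrivial (Ω[F⁄k]) := by
    rw [← not_subsingleton_iff_nontrivial]
    exact fun h => hns ((Algebra.formallyUnramified_iff k F).2 h)
  obtain ⟨x, hx⟩ := exists_ne (0 : Ω[F⁄k])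
  obtain ⟨φ, hφ⟩ := Module.Projective.exists_dual_ne_zero F hx
  let D : Derivation k F F := KaehlerDifferential.linearMapEquivDerivation k F φ
  have hD : D ≠ 0 := fun h => hφ (by
    have : φ = 0 := (KaehlerDifferential.linearMapEquivDerivation k F (M := F)).injective (h.trans (map_zero _).symm)
    rw [this]; rfl)
  -- the kernel
  let S : IntermediateField k F :=
    { carrier := {c | D c = 0}
      mul_mem' := fun {a b} (ha : D a = 0) (hb : D b = 0) => by simp [Derivation.leibniz, ha, hb]
      one_mem' := D.map_one_eq_zero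
      add_mem' := fun {a b} (ha : D a = 0) (hb : D b = 0) => by simp [ha, hb]
      zero_mem' := map_zero D
      algebraMap_mem' := fun a => D.map_algebraMap a
      inv_mem' := fun a (ha : D a = 0) => by simp [Derivation.leibniz_inv, ha] }
  refine ⟨IntermediateField.lift S, ?_⟩
  have hlt : IntermediateField.lift S < F := by
    refine lt_of_le_of_ne (IntermediateField.lift_le S) fun h => hD (Derivation.ext fun c => ?_)
    have hc : (c : L) ∈ IntermediateField.lift S := h.symm ▸ c.2
    exact (IntermediateField.mem_lift c).1 hc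
  -- extend `D` by a basis containing `1`
  have hli : LinearIndepOn F id ({1} : Set L) := LinearIndepOn.singleton (R := F) (v := (id : L → L)) (one_ne_zero (α := L))
  let b := Module.Basis.extend hli
  let i₀ : hli.extend (Set.subset_univ _) := ⟨1, hli.subset_extend _ rfl⟩
  let f : L →ₗ[k] L := ((Finsupp.linearCombination F (⇑b)).restrictScalars k).comp
    ((Finsupp.mapRange.linearMap D.toLinearMap).comp (b.repr.toLinearMap.restrictScalars k))
  have hrep : ∀ y : L, f y = Finsupp.linearCombination F (⇑b) (Finsupp.mapRange D (map_zero D) (b.repr y)) :=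
    fun y => rfl
  have hb1 : b i₀ = 1 := Module.Basis.extend_apply_self hli i₀
  have hone : f 1 = 0 := by
    rw [hrep, (congrArg b.repr hb1).symm.trans (b.repr_self i₀), Finsupp.mapRange_single, D.map_one_eq_zero,
      Finsupp.single_zero, map_zero]
  have hmul : ∀ (x : F) (y : L), f ((x : L) * y) = (D x : L) * y + (x : L) * f y := by
    intro x y
    rw [show (x : L) * y = x • y from rfl, show (D x : L) * y = D x • y from rfl,
      show (x : L) * f y = x • f y from rfl, hrep, hrep, map_smul]
    refine Eq.trans ?_ (congrArg (fun z : L => D x • z + x • Finsupp.linearCombination F (⇑b)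
      (Finsupp.mapRange D (map_zero D) (b.repr y))) (b.linearCombination_repr y))
    refine Eq.trans (congrArg _ (Finsupp.ext fun i => ?_))
      ((map_add (Finsupp.linearCombination F (⇑b)) (D x • b.repr y)
        (x • Finsupp.mapRange D (map_zero D) (b.repr y))).trans (congrArg₂ (· + ·) (map_smul _ _ _) (map_smul _ _ _)))
    simp [Derivation.leibniz]
    ring
  refine ⟨f, hlt, hone, fun c hc => ?_, fun c hc h => ?_, fun x hx y => ?_⟩
  · have := hmul ⟨c, hc⟩ 1
    rw [hone, mul_zero, add_zero, mul_one, mul_one] at this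
    rw [this]; exact Subtype.mem _
  · have := hmul ⟨c, hc⟩ 1
    rw [hone, mul_zero, add_zero, mul_one, mul_one, h] at this
    exact (IntermediateField.mem_lift (⟨c, hc⟩ : F)).2 (Subtype.val_injective this.symm)
  · have := hmul ⟨x, hx⟩ 1
    rw [hone, mul_zero, add_zero, mul_one, mul_one] at this
    rw [this]; exact hmul ⟨x, hx⟩ y

end Groth.Agent.H10Coh.StabBC
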