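import Groth.Agent.H10Coh.StabBC.Sections
import Groth.Agent.H10Coh.StabBC.FieldLemmas
import Groth.Agent.H10Coh.QcqsPush
import Groth.Agent.H10Coh.GenHom
import Groth.Agent.H10Coh.QCohOps
import Groth.Agent.H10Coh.FinType2
import Groth.Agent.H11Aff.CounitQAff
import Groth.Agent.H17.PullSectLocal
import Groth.Agent.H16Derived.KFlat.RestrictD

/-!
# Descent of submodules of `q^* E` along an extension of the ground field
-/

set_option autoImplicit false
set_option linter.style.haveILetI false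
set_option linter.unusedSectionVars false
set_option backward.isDefEq.respectTransparency.types false

universe u

open CategoryTheory CategoryTheory.Limits AlgebraicGeometry Opposite TopologicalSpace
open scoped TensorProduct

noncomputable section

namespace Groth.Agent.H10Coh.StabBC

open Groth.Agent.LeadBC Groth.Agent.LeadFF

theorem exists_section_of_app_eq_zero {Z : Scheme.{u}} {A B : Z.Modules} (φ : A ⟶ B) (W : Z.Opens) (w : Γ(A, W))
    (hw : φ.app W w = 0) : ∃ a, (kernel.ι φ).app W a = w := by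
  let G : Z.Modules ⥤ AddCommGrpCat.{u} :=
    Scheme.Modules.toPresheaf Z ⋙ (evaluation (Opens Z)ᵒᵖ AddCommGrpCat.{u}).obj (op W)
  haveI : (Scheme.Modules.toPresheaf Z).Additive := ⟨rfl⟩
  haveI : G.PreservesZeroMorphisms := { map_zero := fun _ _ => rfl }
  haveI : PreservesFiniteLimits (Scheme.Modules.toPresheaf Z) := PreservesLimitsOfSize.preservesFiniteLimits _
  haveI : PreservesFiniteLimits ((evaluation (Opens Z)ᵒᵖ AddCommGrpCat.{u}).obj (op W)) := inferInstance
  haveI : PreservesFiniteLimits G := comp_preservesFiniteLimits _ _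
  haveI : G.PreservesMonomorphisms := inferInstance
  exact (ShortComplex.ab_exact_iff _).mp
    ((ShortComplex.exact_kernel φ).map_of_mono_of_preservesKernel G inferInstance inferInstance) w hw

/-- A section killed by the projection to the cokernel of a monomorphism lifts. -/
theorem exists_of_π_app_eq_zero {Z : Scheme.{u}} {G A : Z.Modules} (ι : G ⟶ A) [Mono ι] (W : Z.Opens) (w : Γ(A, W))
    (hw : (cokernel.π ι).app W w = 0) : ∃ g, ι.app W g = w := by
  obtain ⟨a, ha⟩ := exists_section_of_app_eq_zero (cokernel.π ι) W w hw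
  have hker : IsLimit (KernelFork.ofι ι (cokernel.condition ι)) :=
    Abelian.monoIsKernelOfCokernel (CokernelCofork.ofπ (cokernel.π ι) (cokernel.condition ι)) (cokernelIsCokernel ι)
  obtain ⟨l, hl⟩ := KernelFork.IsLimit.lift' hker (kernel.ι (cokernel.π ι)) (kernel.condition _)
  exact ⟨l.app W a, (congrArg (fun m => Scheme.Modules.Hom.app m W a) hl).trans ha⟩

theorem π_app_app {Z : Scheme.{u}} {G A : Z.Modules} (ι : G ⟶ A) (W : Z.Opens) (g : Γ(G, W)) :
    (cokernel.π ι).app W (ι.app W g) = 0 :=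
  (congrArg (fun m => Scheme.Modules.Hom.app m W g) (cokernel.condition ι) :)

variable {k L : Type u} [Field k] [Field L] [Algebra k L] {X : Scheme.{u}} [X.Over (Spec (CommRingCat.of k))]
  {X' : Scheme.{u}} [X'.Over (Spec (CommRingCat.of L))] {q : X' ⟶ X}
  (hsq : IsPullback q (X' ↘ Spec (CommRingCat.of L)) (X ↘ Spec (CommRingCat.of k))
    (Spec.map (CommRingCat.ofHom (algebraMap k L))))
  {E : X.Modules} {G : X'.Modules} (ι : G ⟶ qF q E)

/-- The sections of a submodule, inside `L ⊗ Γ(E, V)`. -/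
def Wsub (V : X.Opens) : Submodule L (L ⊗[k] sec k E V) where
  carrier := {z | ∃ w, ι.app (q ⁻¹ᵁ V) w = kap hsq V z}
  zero_mem' := ⟨0, by rw [map_zero, map_zero]⟩
  add_mem' := fun {a b} ⟨w, hw⟩ ⟨w', hw'⟩ => ⟨w + w', by rw [map_add, map_add, hw, hw']⟩
  smul_mem' := fun c z ⟨w, hw⟩ => ⟨sc (X := X') L (q ⁻¹ᵁ V) c • w, by
    rw [Scheme.Modules.Hom.app_smul, hw, kap_smul]⟩

theorem mem_Wsub {V : X.Opens} {z : L ⊗[k] sec k E V} :
    z ∈ Wsub hsq ι V ↔ ∃ w, ι.app (q ⁻¹ᵁ V) w = kap hsq V z := Iff.rfl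

theorem mulL_mem_Wsub {V : X.Opens} (r : Γ(X, V)) {z : L ⊗[k] sec k E V} (hz : z ∈ Wsub hsq ι V) :
    (H23KS.mulL V r).lTensor L z ∈ Wsub hsq ι V := by
  obtain ⟨w, hw⟩ := hz
  exact ⟨q.app V r • w, by rw [Scheme.Modules.Hom.app_smul, hw, kap_mulL]⟩

theorem mulL_mem_coeffIn {V : X.Opens} (r : Γ(X, V)) {F : IntermediateField k L} {z : L ⊗[k] sec k E V}
    (hz : z ∈ coeffIn F) : (H23KS.mulL V r).lTensor L z ∈ coeffIn F := by
  obtain ⟨x, rfl⟩ := hz
  refine ⟨(H23KS.mulL V r).lTensor F x, ?_⟩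
  rw [← LinearMap.comp_apply, LinearMap.rTensor_comp_lTensor, ← LinearMap.lTensor_comp_rTensor, LinearMap.comp_apply]

include hsq in
theorem isQCoh_push [E.IsQuasicoherent] (M : X'.Modules) [M.IsQuasicoherent] :
    ((Scheme.Modules.pushforward q).obj M).IsQuasicoherent := by
  haveI := isAffineHom_fst hsq
  exact H10Coh.isQuasicoherent_pushforward q M

include hsq in
/-- A submodule spanned by sections of `E` over an affine cover is an inverse image. -/
theorem exists_sub [IsLocallyNoetherian X] (hE : Coh.IsCoh E) [Mono ι] (hG : Coh.IsQCoh G)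
    {κ : Type*} (U : κ → X.Opens) (hU : ∀ i, IsAffineOpen (U i)) (hcov : ∀ x, ∃ i, x ∈ U i)
    (hdef : ∀ i, DefOver (Wsub hsq ι (U i)) ⊥) :
    ∃ (G₀ : X.Modules) (ι₀ : G₀ ⟶ E) (e : qF q G₀ ≅ G), Mono ι₀ ∧ Coh.IsCoh G₀ ∧
      e.hom ≫ ι = (Scheme.Modules.pullback q).map ι₀ := by
  haveI := hE.1
  haveI : G.IsQuasicoherent := hG
  haveI : (qF q E).IsQuasicoherent := isQCoh_qF E q
  haveI hQ : (cokernel ι).IsQuasicoherent := H10Coh.isQuasicoherent_cokernel ι
  haveI := isAffineHom_fst hsq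
  haveI := isQCoh_push hsq (E := E) (cokernel ι)
  let adj := Scheme.Modules.pullbackPushforwardAdjunction q
  let ψ : E ⟶ (Scheme.Modules.pushforward q).obj (cokernel ι) :=
    adj.unit.app E ≫ (Scheme.Modules.pushforward q).map (cokernel.π ι)
  have hG₀ : Coh.IsCoh (kernel ψ) := H10Coh.isCoh_kernel ψ hE inferInstance
  haveI := hG₀.1
  have hz : (Scheme.Modules.pullback q).map (kernel.ι ψ) ≫ cokernel.π ι = 0 := by
    apply (adj.homEquiv _ _).injective
    rw [adj.homEquiv_naturality_left, adj.homEquiv_unit, adj.homEquiv_unit, Functor.map_zero, Limits.comp_zero]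
    exact kernel.condition ψ
  have hker : IsLimit (KernelFork.ofι ι (cokernel.condition ι)) :=
    Abelian.monoIsKernelOfCokernel (CokernelCofork.ofπ (cokernel.π ι) (cokernel.condition ι)) (cokernelIsCokernel ι)
  obtain ⟨l, hl⟩ : { l : qF q (kernel ψ) ⟶ G // l ≫ ι = (Scheme.Modules.pullback q).map (kernel.ι ψ) } :=
    KernelFork.IsLimit.lift' hker _ hz
  haveI : AlgebraicGeometry.Flat (Spec.map (CommRingCat.ofHom (algebraMap k L))) :=
    (HasRingHomProperty.Spec_iff (P := @AlgebraicGeometry.Flat)).2 (RingHom.flat_algebraMap_iff.2 inferInstance)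
  haveI : AlgebraicGeometry.Flat q :=
    MorphismProperty.of_isPullback (P := @AlgebraicGeometry.Flat) hsq.flip inferInstance
  haveI := H16Derived.KFlat.Stalk.preservesFiniteLimits_pullback_of_flat q
  haveI : Mono (l ≫ ι) := by rw [hl]; infer_instance
  haveI : Mono l := mono_of_mono l ι
  haveI : Epi l := by
    refine H10Coh.epi_of_surjective_on_cover l hG (fun i => q ⁻¹ᵁ U i) (fun i => (hU i).preimage q)
      (fun x => hcov (q.base x)) fun i => ⟨Set.univ, Submodule.span_univ, fun w _ => ?_⟩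
    obtain ⟨z, hz⟩ := (bijective_kap (E := E) hsq (hU i)).2 (ι.app _ w)
    suffices ∃ y, ι.app _ (l.app (q ⁻¹ᵁ U i) y) = kap hsq (U i) z by
      obtain ⟨y, hy⟩ := this
      exact ⟨y, H10Coh.injective_app_of_mono' ι _ (hy.trans hz)⟩
    have hzW : z ∈ Wsub hsq ι (U i) := ⟨w, hz.symm⟩
    have hz' := hdef i hzW
    clear hzW hz
    induction hz' using Submodule.span_induction with
    | mem v hv =>
      obtain ⟨⟨w', hw'⟩, hvb⟩ := hv
      obtain ⟨m, rfl⟩ := mem_coeffIn_bot.1 hvb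
      rw [kap_one_tmul hsq (U i) (show Γ(E, U i) from m)] at hw' ⊢
      obtain ⟨m₀, hm₀⟩ := exists_section_of_app_eq_zero ψ (U i) (show Γ(E, U i) from m) (by
        show (cokernel.π ι).app _ (OmegaSh.pullSect q E (U i) _) = 0
        rw [← hw', π_app_app])
      refine ⟨OmegaSh.pullSect q (kernel ψ) (U i) m₀, ?_⟩
      refine (congrArg (fun f => Scheme.Modules.Hom.app f (q ⁻¹ᵁ U i) (OmegaSh.pullSect q (kernel ψ) (U i) m₀))
        hl).trans ?_
      rw [← H17.PullSect.pullSect_natural, hm₀]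
    | zero => exact ⟨0, by rw [map_zero, map_zero, map_zero]⟩
    | add a b _ _ ha hb =>
      obtain ⟨y, hy⟩ := ha
      obtain ⟨y', hy'⟩ := hb
      exact ⟨y + y', by rw [map_add, map_add, map_add, hy, hy']⟩
    | smul c a _ ha =>
      obtain ⟨y, hy⟩ := ha
      exact ⟨sc (X := X') L (q ⁻¹ᵁ U i) c • y, by
        rw [Scheme.Modules.Hom.app_smul, Scheme.Modules.Hom.app_smul, hy, kap_smul]⟩
  haveI := isIso_of_mono_of_epi l
  exact ⟨kernel ψ, kernel.ι ψ, asIso l, inferInstance, hG₀, hl⟩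

include hsq in
/-- Linearity modulo the submodule. -/
theorem rTensor_smul_sub_mem {V : X.Opens} {F : IntermediateField k L} (f : L →ₗ[k] L)
    (hf : ∀ x ∈ F, ∀ y : L, f (x * y) = f x * y + x * f y) (hW : DefOver (Wsub hsq ι V) F) (c : L)
    {z : L ⊗[k] sec k E V} (hz : z ∈ Wsub hsq ι V) :
    f.rTensor (sec k E V) (c • z) - c • f.rTensor (sec k E V) z ∈ Wsub hsq ι V := by
  have key : ∀ (c : L) (v : L ⊗[k] sec k E V), v ∈ coeffIn F →
      f.rTensor (sec k E V) (c • v) = c • f.rTensor (sec k E V) v + f c • v := by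
    rintro c v ⟨x, rfl⟩
    induction x using TensorProduct.induction_on with
    | zero => simp
    | add a b ha hb => rw [map_add, smul_add, map_add, ha, hb, map_add, smul_add, smul_add]; abel
    | tmul d m =>
      simp only [LinearMap.rTensor_tmul, TensorProduct.smul_tmul', smul_eq_mul, ← TensorProduct.add_tmul]
      refine congrArg (· ⊗ₜ m) ?_
      show f (c * (d : L)) = c * f d + f c * d
      rw [mul_comm c, hf d d.2 c]
      ring
  have hz' := hW hz
  clear hz
  revert c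
  induction hz' using Submodule.span_induction with
  | mem v hv =>
    intro c
    rw [key c v hv.2, add_sub_cancel_left]
    exact (Wsub hsq ι V).smul_mem _ hv.1
  | zero => intro c; simp
  | add a b _ _ ha hb =>
    intro c
    rw [smul_add, map_add, map_add, smul_add, add_sub_add_comm]
    exact add_mem (ha c) (hb c)
  | smul d a _ ha =>
    intro c
    have e : f.rTensor (sec k E V) (c • d • a) - c • f.rTensor (sec k E V) (d • a) =
        (f.rTensor (sec k E V) ((c * d) • a) - (c * d) • f.rTensor (sec k E V) a) -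
          c • (f.rTensor (sec k E V) (d • a) - d • f.rTensor (sec k E V) a) := by
      rw [smul_sub, smul_smul, smul_smul]
      abel
    rw [e]
    exact sub_mem (ha _) ((Wsub hsq ι V).smul_mem _ (ha _))

include hsq in
/-- A submodule with no maps to its quotient is stable under derivations of the constants. -/
theorem rTensor_mem (hE : Coh.IsQCoh E) [Mono ι] (hG : Coh.IsQCoh G)
    {κ : Type*} (U : κ → X.Opens) (hU : ∀ i, IsAffineOpen (U i)) (hcov : ∀ x, ∃ i, x ∈ U i)
    (hvan : ∀ φ : G ⟶ cokernel ι, φ = 0) (F : IntermediateField k L) (f : L →ₗ[k] L)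
    (hf : ∀ x ∈ F, ∀ y : L, f (x * y) = f x * y + x * f y) (hW : ∀ i, DefOver (Wsub hsq ι (U i)) F)
    (i : κ) {z : L ⊗[k] sec k E (U i)} (hz : z ∈ Wsub hsq ι (U i)) :
    f.rTensor (sec k E (U i)) z ∈ Wsub hsq ι (U i) := by
  haveI : E.IsQuasicoherent := hE
  haveI : G.IsQuasicoherent := hG
  haveI : (qF q E).IsQuasicoherent := isQCoh_qF E q
  haveI hQ : (cokernel ι).IsQuasicoherent := H10Coh.isQuasicoherent_cokernel ι
  haveI := isAffineHom_fst hsq
  haveI := isQCoh_push hsq (E := E) G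
  let adj := Scheme.Modules.pullbackPushforwardAdjunction q
  let P := Scheme.Modules.pushforward q
  obtain ⟨Φ, hΦ⟩ := exists_endo (E := E) hsq f
  let c : P.obj G ⟶ P.obj (cokernel ι) := P.map ι ≫ Φ ≫ P.map (cokernel.π ι)
  let cs : ∀ V : X.Opens, Γ(G, q ⁻¹ᵁ V) →+ Γ(cokernel ι, q ⁻¹ᵁ V) := fun V => (c.app V).hom
  have hcs : ∀ (V : X.Opens) (_ : IsAffineOpen V) (w : Γ(G, q ⁻¹ᵁ V)) (z : L ⊗[k] sec k E V),
      ι.app (q ⁻¹ᵁ V) w = kap hsq V z →
      cs V w = (cokernel.π ι).app (q ⁻¹ᵁ V) (kap hsq V (f.rTensor (sec k E V) z)) := fun V hV w z h =>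
    congrArg ((cokernel.π ι).app (q ⁻¹ᵁ V)) ((congrArg (Φ.app V) h).trans (hΦ V hV z))
  have hlin : ∀ (j : κ) (b : Γ(X', q ⁻¹ᵁ U j)) (w : Γ(G, q ⁻¹ᵁ U j)), cs (U j) (b • w) = b • cs (U j) w := by
    intro j b w
    induction mem_closure_functions hsq (hU j) b using AddSubgroup.closure_induction with
    | mem b hb =>
      obtain ⟨a, r, rfl⟩ := hb
      rw [mul_smul, mul_smul]
      obtain ⟨z, hz⟩ := (bijective_kap (E := E) hsq (hU j)).2 (ι.app _ (q.app (U j) r • w))
      have h1 : ι.app (q ⁻¹ᵁ U j) (sc (X := X') L (q ⁻¹ᵁ U j) a • q.app (U j) r • w) = kap hsq (U j) (a • z) := by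
        rw [Scheme.Modules.Hom.app_smul, kap_smul, hz]
      have hr : cs (U j) (q.app (U j) r • w) = q.app (U j) r • cs (U j) w := Scheme.Modules.Hom.app_smul c r w
      rw [hcs _ (hU j) _ _ h1, ← hr, hcs _ (hU j) _ _ hz.symm, ← Scheme.Modules.Hom.app_smul,
        ← sub_eq_zero, ← map_sub, ← kap_smul, ← map_sub]
      obtain ⟨w', hw'⟩ := rTensor_smul_sub_mem hsq ι f hf (hW j) a ⟨_, hz.symm⟩
      rw [← hw', π_app_app]
    | zero => rw [zero_smul, map_zero, zero_smul]
    | add a b _ _ ha hb => rw [add_smul, map_add, ha, hb, add_smul]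
    | neg a _ ha => rw [neg_smul, map_neg, ha, neg_smul]
  -- the transpose factors through the counit
  let d : qF q (P.obj G) ⟶ cokernel ι := (adj.homEquiv _ _).symm c
  have hd : ∀ (V : X.Opens) (w : Γ(G, q ⁻¹ᵁ V)),
      d.app (q ⁻¹ᵁ V) (OmegaSh.pullSect q (P.obj G) V w) = cs V w := fun V w => by
    have h := (adj.homEquiv _ _).apply_symm_apply c
    rw [adj.homEquiv_unit] at h
    exact congrArg (fun m => Scheme.Modules.Hom.app m V w) h
  have hcou : ∀ (V : X.Opens) (w : Γ(G, q ⁻¹ᵁ V)),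
      (adj.counit.app G).app (q ⁻¹ᵁ V) (OmegaSh.pullSect q (P.obj G) V w) = w := fun V w =>
    congrArg (fun m => Scheme.Modules.Hom.app m V w) (adj.right_triangle_components G)
  haveI : Epi (adj.counit.app G) := H11Aff.epi_counit_of_isQuasiAffine q (fun V hV => by
    haveI : IsAffine (q ⁻¹ᵁ V).toScheme := hV.preimage q
    infer_instance) G
  haveI : (qF q (P.obj G)).IsQuasicoherent := isQCoh_qF (P.obj G) q
  haveI : (kernel (adj.counit.app G)).IsQuasicoherent :=
    H10Coh.isQuasicoherent_kernel (show qF q (P.obj G) ⟶ G from adj.counit.app G)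
  have hkill : kernel.ι (adj.counit.app G) ≫ d = 0 := by
    refine H23KS.hom_eq_zero_of_cover _ (fun j => q ⁻¹ᵁ U j) (fun j => (hU j).preimage q)
      (fun x => hcov (q.base x)) fun j m => ?_
    show d.app _ ((kernel.ι (adj.counit.app G)).app _ m) = 0
    have key : ∀ y : Γ(qF q (P.obj G), q ⁻¹ᵁ U j), ∃ w : Γ(G, q ⁻¹ᵁ U j),
        (adj.counit.app G).app (q ⁻¹ᵁ U j) y = w ∧ d.app (q ⁻¹ᵁ U j) y = cs (U j) w := by
      intro y
      letI := (q.appLE (U j) (q ⁻¹ᵁ U j) le_rfl).hom.toAlgebra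
      letI := Module.compHom Γ((Scheme.Modules.pullback q).obj (P.obj G), q ⁻¹ᵁ U j)
        (q.appLE (U j) (q ⁻¹ᵁ U j) le_rfl).hom
      haveI : IsScalarTower Γ(X, U j) Γ(X', q ⁻¹ᵁ U j) Γ((Scheme.Modules.pullback q).obj (P.obj G), q ⁻¹ᵁ U j) :=
        .of_algebraMap_smul fun _ _ => rfl
      have hb := H8Props.PullSections.isBaseChange_pullLin q (P.obj G) (le_refl (q ⁻¹ᵁ U j))
        inferInstance (hU j) ((hU j).preimage q)
      refine hb.inductionOn y (fun y => ∃ w, (adj.counit.app G).app (q ⁻¹ᵁ U j) y = w ∧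
        d.app (q ⁻¹ᵁ U j) y = cs (U j) w) ⟨0, map_zero _, by rw [map_zero, map_zero]⟩ (fun w => ⟨w, ?_, ?_⟩)
        (fun b y ⟨w, h1, h2⟩ => ⟨b • w, ?_, ?_⟩)
        (fun y y' ⟨w, h1, h2⟩ ⟨w', h1', h2'⟩ => ⟨w + w', by rw [map_add, h1, h1'], by
          rw [map_add, h2, h2', map_add]⟩)
      · refine (congrArg ((adj.counit.app G).app (q ⁻¹ᵁ U j)) ?_).trans (hcou (U j) w)
        exact ConcreteCategory.congr_hom ((qF q (P.obj G)).presheaf.map_id _) _
      · refine (congrArg (d.app (q ⁻¹ᵁ U j)) ?_).trans (hd (U j) w)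
        exact ConcreteCategory.congr_hom ((qF q (P.obj G)).presheaf.map_id _) _
      · rw [Scheme.Modules.Hom.app_smul, h1]
      · rw [Scheme.Modules.Hom.app_smul, h2, hlin]
    obtain ⟨w, hw1, hw2⟩ := key ((kernel.ι (adj.counit.app G)).app _ m)
    rw [hw2, ← hw1, show (adj.counit.app G).app (q ⁻¹ᵁ U j) ((kernel.ι (adj.counit.app G)).app _ m) = 0 from
      congrArg (fun e => Scheme.Modules.Hom.app e (q ⁻¹ᵁ U j) m) (kernel.condition (adj.counit.app G)), map_zero]
  have hd0 : d = 0 := by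
    rw [← Abelian.comp_epiDesc (adj.counit.app G) d hkill, hvan (Abelian.epiDesc (adj.counit.app G) d hkill),
      Limits.comp_zero]
  obtain ⟨w, hw⟩ := hz
  refine exists_of_π_app_eq_zero ι (q ⁻¹ᵁ U i) (kap hsq (U i) (f.rTensor _ z)) ?_
  rw [← hcs _ (hU i) w z hw, ← hd, hd0]
  rfl

end Groth.Agent.H10Coh.StabBC
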