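import Groth.Agent.H10Coh.StabBC.Descend
import Groth.Agent.H24FMod.PullSys

/-!
# The action of automorphisms of the constants
-/

set_option autoImplicit false
set_option linter.style.haveILetI false
set_option linter.unusedSectionVars false
set_option backward.isDefEq.respectTransparency.types false

universe u

open CategoryTheory CategoryTheory.Limits AlgebraicGeometry Opposite TopologicalSpace
open scoped TensorProduct

noncomputable section

namespace Groth.Agent.H10Coh.StabBC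

open Groth.Agent.LeadBC Groth.Agent.LeadFF

theorem pullbackCongr_pullSect {X' X : Scheme.{u}} {g h : X' ⟶ X} (e : g = h) (M : X.Modules) (W : X.Opens)
    (m : Γ(M, W)) :
    ((Scheme.Modules.pullback h).obj M).presheaf.map (homOfLE (le_of_eq (by rw [e]) : h ⁻¹ᵁ W ≤ g ⁻¹ᵁ W)).op
      (((Scheme.Modules.pullbackCongr e).hom.app M).app (g ⁻¹ᵁ W) (OmegaSh.pullSect g M W m)) =
      OmegaSh.pullSect h M W m := by
  subst e
  have h1 : (Scheme.Modules.pullbackCongr (rfl : g = g)).hom.app M = 𝟙 _ := by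
    simp [Scheme.Modules.pullbackCongr]
  rw [h1]
  exact ConcreteCategory.congr_hom (((Scheme.Modules.pullback g).obj M).presheaf.map_id _) _

variable {k L : Type u} [Field k] [Field L] [Algebra k L] {X : Scheme.{u}} [X.Over (Spec (CommRingCat.of k))]
  {X' : Scheme.{u}} [X'.Over (Spec (CommRingCat.of L))] {q : X' ⟶ X}
  (hsq : IsPullback q (X' ↘ Spec (CommRingCat.of L)) (X ↘ Spec (CommRingCat.of k))
    (Spec.map (CommRingCat.ofHom (algebraMap k L))))

include hsq in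
/-- An automorphism of the constants acts on the base change. -/
theorem exists_twist (σ : L ≃ₐ[k] L) :
    ∃ (s : X' ⟶ X') (_ : IsIso s), s ≫ q = q ∧
      IsPullback s (X' ↘ Spec (CommRingCat.of L)) (X' ↘ Spec (CommRingCat.of L))
        (Spec.map (CommRingCat.ofHom σ.toAlgHom.toRingHom)) := by
  let p := X' ↘ Spec (CommRingCat.of L)
  let S : ∀ τ : L ≃ₐ[k] L, X' ⟶ X' := fun τ =>
    hsq.lift q (p ≫ Spec.map (CommRingCat.ofHom τ.toAlgHom.toRingHom)) (by
      rw [hsq.w, Category.assoc, ← Spec.map_comp, ← CommRingCat.ofHom_comp]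
      congr 3
      exact (τ.toAlgHom.comp_algebraMap).symm)
  have hq : ∀ τ, S τ ≫ q = q := fun τ => hsq.lift_fst _ _ _
  have hp : ∀ τ, S τ ≫ p = p ≫ Spec.map (CommRingCat.ofHom τ.toAlgHom.toRingHom) := fun τ => hsq.lift_snd _ _ _
  have hinv : ∀ τ, S τ ≫ S τ.symm = 𝟙 X' := fun τ => by
    refine hsq.hom_ext ?_ ?_
    · rw [Category.assoc, hq, hq, Category.id_comp]
    · rw [Category.assoc, hp, ← Category.assoc, hp, Category.assoc, ← Spec.map_comp, ← CommRingCat.ofHom_comp,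
        Category.id_comp]
      conv_rhs => rw [← Category.comp_id (X' ↘ Spec (CommRingCat.of L)), ← Spec.map_id, ← CommRingCat.ofHom_id]
      congr 3
      exact RingHom.ext fun x => τ.apply_symm_apply x
  haveI : IsIso (S σ) := ⟨S σ.symm, hinv σ, by simpa using hinv σ.symm⟩
  haveI : IsIso (Spec.map (CommRingCat.ofHom σ.toAlgHom.toRingHom)) := by
    haveI : IsIso (CommRingCat.ofHom σ.toAlgHom.toRingHom) :=
      (ConcreteCategory.isIso_iff_bijective _).2 σ.bijective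
    infer_instance
  exact ⟨S σ, inferInstance, hq σ, IsPullback.of_horiz_isIso ⟨hp σ⟩⟩

variable {E : X.Modules} {G : X'.Modules} (ι : G ⟶ qF q E) {s : X' ⟶ X'}

/-- The identification `s^* q^* E = q^* E`. -/
def twistIso (hs : s ≫ q = q) (E : X.Modules) : qF s (qF q E) ≅ qF q E :=
  (Scheme.Modules.pullbackComp s q).app E ≪≫ (Scheme.Modules.pullbackCongr hs).app E

theorem twistIso_pullSect (hs : s ≫ q = q) (V : X.Opens) (m : Γ(E, V))
    (hle : q ⁻¹ᵁ V ≤ (s ≫ q) ⁻¹ᵁ V) :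
    (qF q E).presheaf.map (homOfLE hle).op
      ((twistIso hs E).hom.app ((s ≫ q) ⁻¹ᵁ V) (OmegaSh.pullSect s (qF q E) (q ⁻¹ᵁ V) (OmegaSh.pullSect q E V m))) =
      OmegaSh.pullSect q E V m := by
  have h1 := H24FMod.pullbackComp_hom_pullSect s q E V m
  have h2 := pullbackCongr_pullSect hs E V m
  rw [← h1] at h2
  exact h2

include hsq in
/-- If the twist of a submodule lies inside it, its sections are stable under the automorphism. -/
theorem rTensor_mem_of_twist [E.IsQuasicoherent] (σ : L ≃ₐ[k] L) (hs : s ≫ q = q)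
    (hσ : IsPullback s (X' ↘ Spec (CommRingCat.of L)) (X' ↘ Spec (CommRingCat.of L))
      (Spec.map (CommRingCat.ofHom σ.toAlgHom.toRingHom)))
    (l : qF s G ⟶ G) (hl : l ≫ ι = (Scheme.Modules.pullback s).map ι ≫ (twistIso hs E).hom)
    {V : X.Opens} {z : L ⊗[k] sec k E V} (hz : z ∈ Wsub hsq ι V) :
    σ.toLinearMap.rTensor (sec k E V) z ∈ Wsub hsq ι V := by
  obtain ⟨w, hw⟩ := hz
  have hle : q ⁻¹ᵁ V ≤ (s ≫ q) ⁻¹ᵁ V := le_of_eq (congrArg (fun g : X' ⟶ X => g ⁻¹ᵁ V) hs).symm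
  refine ⟨G.presheaf.map (homOfLE hle).op (l.app ((s ≫ q) ⁻¹ᵁ V) (OmegaSh.pullSect s G (q ⁻¹ᵁ V) w)), ?_⟩
  rw [H11Tilde.app_map_apply]
  refine (congrArg _ (congrArg (fun f => Scheme.Modules.Hom.app f ((s ≫ q) ⁻¹ᵁ V)
    (OmegaSh.pullSect s G (q ⁻¹ᵁ V) w)) hl)).trans ?_
  show (qF q E).presheaf.map (homOfLE hle).op ((twistIso hs E).hom.app _
    (((Scheme.Modules.pullback s).map ι).app (s ⁻¹ᵁ (q ⁻¹ᵁ V)) (OmegaSh.pullSect s G (q ⁻¹ᵁ V) w))) = _
  rw [← H17.PullSect.pullSect_natural, hw]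
  clear hw
  let Θ : Γ(qF q E, q ⁻¹ᵁ V) →+ Γ(qF q E, q ⁻¹ᵁ V) :=
    ((qF q E).presheaf.map (homOfLE hle).op).hom.comp
      (((twistIso hs E).hom.app ((s ≫ q) ⁻¹ᵁ V)).hom.comp (OmegaSh.pullSect s (qF q E) (q ⁻¹ᵁ V)).hom)
  show Θ (kap hsq V z) = _
  induction z using TensorProduct.induction_on with
  | zero => simp only [map_zero]
  | add a b ha hb =>
    rw [map_add, map_add, map_add, map_add]
    exact congrArg₂ (· + ·) ha hb
  | tmul c m =>
    show (qF q E).presheaf.map (homOfLE hle).op ((twistIso hs E).hom.app ((s ≫ q) ⁻¹ᵁ V)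
      (OmegaSh.pullSect s (qF q E) (q ⁻¹ᵁ V) (kap hsq V (c ⊗ₜ m)))) = _
    rw [LinearMap.rTensor_tmul]
    refine Eq.trans ?_ (kap_tmul hsq V (σ c) (show Γ(E, V) from m)).symm
    rw [kap_tmul hsq V c (show Γ(E, V) from m), OmegaSh.pullSect_smul]
    refine (congrArg _ (Scheme.Modules.Hom.app_smul (twistIso hs E).hom
      (s.app (q ⁻¹ᵁ V) (sc (X := X') L (q ⁻¹ᵁ V) c)) _)).trans ?_
    refine (Scheme.Modules.map_smul (qF q E) _ _ _).trans ?_
    refine congrArg₂ (· • ·) ?_ (twistIso_pullSect hs V _ hle)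
    exact (congrArg _ (app_scal hσ (q ⁻¹ᵁ V) c)).trans (map_scal _ hle _)

end Groth.Agent.H10Coh.StabBC
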