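import Mathlib.RingTheory.TensorProduct.Free
import Mathlib.LinearAlgebra.Basis.VectorSpace
import Mathlib.FieldTheory.IntermediateField.Adjoin.Basic

/-!
# Subspaces of `L ⊗_k M` stable under operators on `L` are defined over their common kernel
-/

set_option autoImplicit false

universe u

open scoped TensorProduct

namespace Groth.Agent.H10Coh.StabBC

variable {k L : Type u} [Field k] [Field L] [Algebra k L] {M : Type u} [AddCommGroup M] [Module k M]

/-- Elements of `L ⊗ M` with coefficients in `F`. -/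
def coeffIn (F : IntermediateField k L) : Submodule k (L ⊗[k] M) :=
  LinearMap.range (F.val.toLinearMap.rTensor M)

/-- `W` is spanned by its elements with coefficients in `F`. -/
def DefOver (W : Submodule L (L ⊗[k] M)) (F : IntermediateField k L) : Prop :=
  W ≤ Submodule.span L {v | v ∈ W ∧ v ∈ coeffIn F}

variable {ι : Type u} (b : Module.Basis ι k M)

theorem repr_rTensor (f : L →ₗ[k] L) (z : L ⊗[k] M) (i : ι) :
    (Algebra.TensorProduct.basis L b).repr (f.rTensor M z) i =
      f ((Algebra.TensorProduct.basis L b).repr z i) := by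
  induction z using TensorProduct.induction_on with
  | zero => simp
  | add x y hx hy => simp [map_add, hx, hy]
  | tmul c m =>
    simp
    rw [mul_comm c, ← Algebra.smul_def, map_smul, Algebra.smul_def, mul_comm]

theorem mem_coeffIn_iff {F : IntermediateField k L} {z : L ⊗[k] M} :
    z ∈ coeffIn F ↔ ∀ i, (Algebra.TensorProduct.basis L b).repr z i ∈ F := by
  constructor
  · rintro ⟨w, rfl⟩ i
    induction w using TensorProduct.induction_on with
    | zero => simp
    | add x y hx hy => simp only [map_add, Finsupp.add_apply]; exact add_mem hx hy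
    | tmul c m =>
      simp only [LinearMap.rTensor_tmul, Algebra.TensorProduct.basis_repr_tmul, Finsupp.smul_apply,
        Finsupp.mapRange_apply, smul_eq_mul]
      exact mul_mem c.2 (F.algebraMap_mem _)
  · intro h
    rw [← (Algebra.TensorProduct.basis L b).linearCombination_repr z, Finsupp.linearCombination_apply]
    refine Submodule.sum_mem _ fun i _ => ⟨(⟨_, h i⟩ : F) ⊗ₜ b i, ?_⟩
    simp [Algebra.TensorProduct.basis_apply, TensorProduct.smul_tmul']

/-- Descent along a family of operators. -/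
theorem DefOver.descend {W : Submodule L (L ⊗[k] M)} {F₁ F₀ : IntermediateField k L} (Φ : Set (L →ₗ[k] L))
    (h1 : ∀ f ∈ Φ, f 1 = 0) (hF : ∀ f ∈ Φ, ∀ c ∈ F₁, f c ∈ F₁)
    (hker : ∀ c ∈ F₁, (∀ f ∈ Φ, f c = 0) → c ∈ F₀)
    (hst : ∀ f ∈ Φ, ∀ w ∈ W, w ∈ coeffIn F₁ → f.rTensor M w ∈ W) (hW : DefOver W F₁) : DefOver W F₀ := by
  classical
  refine hW.trans (Submodule.span_le.2 fun w hw => ?_)
  let b := Module.Basis.ofVectorSpace k M
  let B := Algebra.TensorProduct.basis L b
  suffices key : ∀ n : ℕ, ∀ w ∈ W, w ∈ coeffIn F₁ → (B.repr w).support.card = n →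
      w ∈ Submodule.span L {v | v ∈ W ∧ v ∈ coeffIn F₀} from key _ w hw.1 hw.2 rfl
  intro n
  induction n using Nat.strong_induction_on with
  | _ n ih =>
    intro w hw hwF hn
    rcases (B.repr w).support.eq_empty_or_nonempty with h0 | ⟨i, hi⟩
    · rw [Finsupp.support_eq_empty, LinearEquiv.map_eq_zero_iff] at h0
      rw [h0]; exact zero_mem _
    rw [mem_coeffIn_iff b] at hwF
    have hci : B.repr w i ≠ 0 := Finsupp.mem_support_iff.1 hi
    let v := (B.repr w i)⁻¹ • w
    have hv : v ∈ W := W.smul_mem _ hw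
    have hvr : ∀ j, B.repr v j = (B.repr w i)⁻¹ * B.repr w j := fun j => by simp [v]
    have hvF : v ∈ coeffIn F₁ := (mem_coeffIn_iff b).2 fun j => by
      rw [hvr]; exact mul_mem (inv_mem (hwF i)) (hwF j)
    have hwv : w = B.repr w i • v := by rw [smul_smul, mul_inv_cancel₀ hci, one_smul]
    by_cases hΦ : ∀ f ∈ Φ, f.rTensor M v = 0
    · rw [hwv]
      refine Submodule.smul_mem _ _ (Submodule.subset_span ⟨hv, (mem_coeffIn_iff b).2 fun j => hker _
        ((mem_coeffIn_iff b).1 hvF j) fun f hf => ?_⟩)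
      rw [← repr_rTensor b f v j, hΦ f hf]; simp
    push Not at hΦ
    obtain ⟨f, hf, hfv⟩ := hΦ
    let u := f.rTensor M v
    have hu : u ∈ W := hst f hf v hv hvF
    have hur : ∀ j, B.repr u j = f (B.repr v j) := repr_rTensor b f v
    have huF : u ∈ coeffIn F₁ := (mem_coeffIn_iff b).2 fun j => by
      rw [hur]; exact hF f hf _ ((mem_coeffIn_iff b).1 hvF j)
    have husub : (B.repr u).support ⊆ (B.repr w).support.erase i := fun j hj => by
      rw [Finsupp.mem_support_iff, hur] at hj
      refine Finset.mem_erase.2 ⟨fun h => hj ?_, Finsupp.mem_support_iff.2 fun h => hj ?_⟩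
      · rw [h, hvr, inv_mul_cancel₀ hci, h1 f hf]
      · rw [hvr, h, mul_zero, map_zero]
    have hu0 : (B.repr u).support.Nonempty := Finsupp.support_nonempty_iff.2 (by simpa using hfv)
    obtain ⟨j, hj⟩ := hu0
    have hju : B.repr u j ≠ 0 := Finsupp.mem_support_iff.1 hj
    let c := B.repr w j * (B.repr u j)⁻¹
    let w' := w - c • u
    have hw'r : ∀ l, B.repr w' l = B.repr w l - c * B.repr u l := fun l => by simp [w']
    have hw'sub : (B.repr w').support ⊆ (B.repr w).support.erase j := fun l hl => by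
      rw [Finsupp.mem_support_iff, hw'r] at hl
      refine Finset.mem_erase.2 ⟨fun h => hl ?_, Finsupp.mem_support_iff.2 fun h => hl ?_⟩
      · rw [h]; simp [c, mul_assoc, inv_mul_cancel₀ hju]
      · rw [h, show B.repr u l = 0 from Finsupp.notMem_support_iff.1 fun hlu =>
          Finsupp.mem_support_iff.1 (Finset.mem_of_mem_erase (husub hlu)) h]
        simp
    have hw'F : w' ∈ coeffIn F₁ := (mem_coeffIn_iff b).2 fun l => by
      rw [hw'r]
      exact sub_mem (hwF l) (mul_mem (mul_mem (hwF j) (inv_mem ((mem_coeffIn_iff b).1 huF j)))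
        ((mem_coeffIn_iff b).1 huF l))
    have hlt₁ : (B.repr u).support.card < n :=
      hn ▸ (Finset.card_le_card husub).trans_lt (Finset.card_erase_lt_of_mem hi)
    have hlt₂ : (B.repr w').support.card < n :=
      hn ▸ (Finset.card_le_card hw'sub).trans_lt
        (Finset.card_erase_lt_of_mem (Finset.mem_of_mem_erase (husub hj)))
    have e : w = w' + c • u := (sub_add_cancel _ _).symm
    rw [e]
    exact add_mem (ih _ hlt₂ w' (W.sub_mem hw (W.smul_mem _ hu)) hw'F rfl)
      (Submodule.smul_mem _ _ (ih _ hlt₁ u hu huF rfl))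

theorem defOver_top (W : Submodule L (L ⊗[k] M)) : DefOver W ⊤ := fun w hw =>
  Submodule.subset_span ⟨hw, (mem_coeffIn_iff (Module.Basis.ofVectorSpace k M)).2 fun _ =>
    IntermediateField.mem_top⟩

theorem coeffIn_mono {F F' : IntermediateField k L} (h : F ≤ F') : coeffIn (M := M) F ≤ coeffIn F' := fun z hz =>
  (mem_coeffIn_iff (Module.Basis.ofVectorSpace k M)).2 fun i =>
    h ((mem_coeffIn_iff (Module.Basis.ofVectorSpace k M)).1 hz i)

theorem mem_coeffIn_bot {z : L ⊗[k] M} : z ∈ coeffIn (⊥ : IntermediateField k L) ↔ ∃ m : M, (1 : L) ⊗ₜ[k] m = z := by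
  constructor
  · rintro ⟨w, rfl⟩
    induction w using TensorProduct.induction_on with
    | zero => exact ⟨0, by simp⟩
    | add x y hx hy =>
      obtain ⟨a, ha⟩ := hx
      obtain ⟨a', ha'⟩ := hy
      exact ⟨a + a', by rw [TensorProduct.tmul_add, ha, ha', map_add]⟩
    | tmul c m =>
      obtain ⟨a, ha⟩ := IntermediateField.mem_bot.1 c.2
      exact ⟨a • m, by simp [← ha, TensorProduct.tmul_smul, TensorProduct.smul_tmul', Algebra.algebraMap_eq_smul_one]⟩
  · rintro ⟨m, rfl⟩
    exact ⟨(1 : (⊥ : IntermediateField k L)) ⊗ₜ m, by simp⟩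

end Groth.Agent.H10Coh.StabBC
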