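import Groth.Agent.H10Coh.StabBC.Galois
import Groth.Agent.H10Coh.Local

/-!
# Canonical submodules of `q^* E` descend
-/

set_option autoImplicit false
set_option linter.style.haveILetI false
set_option linter.unusedSectionVars false
set_option backward.isDefEq.respectTransparency.types false

universe u

open CategoryTheory CategoryTheory.Limits AlgebraicGeometry Opposite TopologicalSpace
open scoped TensorProduct

noncomputable section

namespace Groth.Agent.H10Coh.StabBC

open Groth.Agent.LeadBC Groth.Agent.LeadFF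

theorem isPurelyInseparable_of_le {k L : Type u} [Field k] [Field L] [Algebra k L] {F : IntermediateField k L}
    (h : F ≤ perfectClosure k L) : IsPurelyInseparable k F := by
  obtain ⟨p, hp⟩ := ExpChar.exists k
  rw [isPurelyInseparable_iff_pow_mem k p]
  intro x
  obtain ⟨n, a, ha⟩ := (mem_perfectClosure_iff_pow_mem p).1 (h x.2)
  exact ⟨n, a, Subtype.val_injective ha⟩

variable {k L : Type u} [Field k] [Field L] [Algebra k L] {X : Scheme.{u}} [X.Over (Spec (CommRingCat.of k))]
  {X' : Scheme.{u}} [X'.Over (Spec (CommRingCat.of L))] {q : X' ⟶ X}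
  (hsq : IsPullback q (X' ↘ Spec (CommRingCat.of L)) (X ↘ Spec (CommRingCat.of k))
    (Spec.map (CommRingCat.ofHom (algebraMap k L))))
  {E : X.Modules} {G : X'.Modules} (ι : G ⟶ qF q E)

/-- Each element of a submodule defined over `F'` is defined over a finitely generated subfield. -/
theorem exists_finite_coeff {V : X.Opens} {F' : IntermediateField k L} (hW : DefOver (Wsub hsq ι V) F')
    {z : L ⊗[k] sec k E V} (hz : z ∈ Wsub hsq ι V) :
    ∃ S : Finset L, (S : Set L) ⊆ F' ∧
      z ∈ Submodule.span L {v | v ∈ Wsub hsq ι V ∧ v ∈ coeffIn (IntermediateField.adjoin k (S : Set L))} := by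
  classical
  have hmono : ∀ {S T : Finset L}, S ⊆ T →
      Submodule.span L {v | v ∈ Wsub hsq ι V ∧ v ∈ coeffIn (IntermediateField.adjoin k (S : Set L))} ≤
        Submodule.span L {v | v ∈ Wsub hsq ι V ∧ v ∈ coeffIn (IntermediateField.adjoin k (T : Set L))} :=
    fun h => Submodule.span_mono fun v hv =>
      ⟨hv.1, coeffIn_mono (IntermediateField.adjoin.mono k _ _ (Finset.coe_subset.2 h)) hv.2⟩
  have hz' := hW hz
  clear hz
  induction hz' using Submodule.span_induction with
  | mem v hv =>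
    obtain ⟨hvW, x, rfl⟩ := hv
    have key : ∀ x : F' ⊗[k] sec k E V, ∃ S : Finset L, (S : Set L) ⊆ F' ∧
        F'.val.toLinearMap.rTensor (sec k E V) x ∈ coeffIn (IntermediateField.adjoin k (S : Set L)) := by
      intro x
      induction x using TensorProduct.induction_on with
      | zero => exact ⟨∅, by simp, by rw [map_zero]; exact zero_mem _⟩
      | add a b ha hb =>
        obtain ⟨S, hS, hSa⟩ := ha
        obtain ⟨T, hT, hTb⟩ := hb
        refine ⟨S ∪ T, by simp [hS, hT], ?_⟩
        rw [map_add]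
        exact add_mem
          (coeffIn_mono (IntermediateField.adjoin.mono k _ _ (Finset.coe_subset.2 Finset.subset_union_left)) hSa)
          (coeffIn_mono (IntermediateField.adjoin.mono k _ _ (Finset.coe_subset.2 Finset.subset_union_right)) hTb)
      | tmul c m =>
        exact ⟨{(c : L)}, by simp, (⟨(c : L), IntermediateField.subset_adjoin k _ (by simp)⟩ :
          IntermediateField.adjoin k (({(c : L)} : Finset L) : Set L)) ⊗ₜ m, rfl⟩
    obtain ⟨S, hS, hSv⟩ := key x
    exact ⟨S, hS, Submodule.subset_span ⟨hvW, hSv⟩⟩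
  | zero => exact ⟨∅, by simp, zero_mem _⟩
  | add a b _ _ ha hb =>
    obtain ⟨S, hS, hSa⟩ := ha
    obtain ⟨T, hT, hTb⟩ := hb
    exact ⟨S ∪ T, by simp [hS, hT],
      add_mem (hmono Finset.subset_union_left hSa) (hmono Finset.subset_union_right hTb)⟩
  | smul c a _ ha =>
    obtain ⟨S, hS, hSa⟩ := ha
    exact ⟨S, hS, Submodule.smul_mem _ _ hSa⟩

include hsq in
/-- A submodule of finite type defined over a field is defined over a finitely generated subfield. -/
theorem exists_finite_defOver [E.IsQuasicoherent] [Mono ι] (hG : Coh.IsCoh G) {V : X.Opens} (hV : IsAffineOpen V)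
    {F' : IntermediateField k L} (hW : DefOver (Wsub hsq ι V) F') :
    ∃ S : Finset L, (S : Set L) ⊆ F' ∧ DefOver (Wsub hsq ι V) (IntermediateField.adjoin k (S : Set L)) := by
  classical
  haveI := hG.1
  haveI := isAffineHom_fst hsq
  obtain ⟨gens, hgens⟩ := (H10Coh.finite_sections G hG.2 (hV.preimage q)).fg_top
  choose zf hzf using fun w : Γ(G, q ⁻¹ᵁ V) => (bijective_kap (E := E) hsq hV).2 (ι.app (q ⁻¹ᵁ V) w)
  choose S hS hSz using fun w => exists_finite_coeff hsq ι hW (z := zf w) ((mem_Wsub hsq ι).2 ⟨w, (hzf w).symm⟩)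
  let T₀ := gens.biUnion S
  refine ⟨T₀, fun c hc => ?_, fun z hz => ?_⟩
  · obtain ⟨w, -, hw⟩ := Finset.mem_biUnion.1 (Finset.mem_coe.1 hc)
    exact hS w hw
  let T := Submodule.span L {v | v ∈ Wsub hsq ι V ∧ v ∈ coeffIn (IntermediateField.adjoin k (T₀ : Set L))}
  have hlin₀ : ∀ (r : Γ(X, V)) (c : L) (a : L ⊗[k] sec k E V),
      (H23KS.mulL V r).lTensor L (c • a) = c • (H23KS.mulL V r).lTensor L a := fun r c a => by
    induction a using TensorProduct.induction_on with
    | zero => simp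
    | add a b ha hb => simp only [smul_add, map_add, ha, hb]
    | tmul d m => simp [TensorProduct.smul_tmul']
  have hTr : ∀ (r : Γ(X, V)) (v : L ⊗[k] sec k E V), v ∈ T → (H23KS.mulL V r).lTensor L v ∈ T := by
    intro r v hv
    have hlin := hlin₀ r
    induction hv using Submodule.span_induction with
    | mem v hv => exact Submodule.subset_span ⟨mulL_mem_Wsub hsq ι r hv.1, mulL_mem_coeffIn r hv.2⟩
    | zero => rw [map_zero]; exact zero_mem _
    | add a b _ _ ha hb => rw [map_add]; exact add_mem ha hb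
    | smul c a _ ha =>
      rw [hlin c a]; exact T.smul_mem _ ha
  suffices key : ∀ w : Γ(G, q ⁻¹ᵁ V), ∃ z ∈ T, ι.app (q ⁻¹ᵁ V) w = kap hsq V z by
    obtain ⟨w, hw⟩ := hz
    obtain ⟨z', hz'T, hz'⟩ := key w
    rwa [(bijective_kap (E := E) hsq hV).1 (hw.symm.trans hz')]
  intro w
  have hw : w ∈ Submodule.span Γ(X', q ⁻¹ᵁ V) (gens : Set Γ(G, q ⁻¹ᵁ V)) := hgens ▸ Submodule.mem_top
  induction hw using Submodule.span_induction with
  | mem w hw =>
    refine ⟨zf w, ?_, (hzf w).symm⟩
    have hsub : ({v | v ∈ Wsub hsq ι V ∧ v ∈ coeffIn (IntermediateField.adjoin k (S w : Set L))} :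
        Set (L ⊗[k] sec k E V)) ⊆ {v | v ∈ Wsub hsq ι V ∧ v ∈ coeffIn (IntermediateField.adjoin k (T₀ : Set L))} := by
      intro v hv
      refine ⟨hv.1, coeffIn_mono ?_ hv.2⟩
      exact IntermediateField.adjoin.mono k _ _ (Finset.coe_subset.2 (Finset.subset_biUnion_of_mem S hw))
    exact Submodule.span_mono hsub (hSz w)
  | zero => exact ⟨0, zero_mem _, by rw [map_zero, map_zero]⟩
  | add a b _ _ ha hb =>
    obtain ⟨z, hz, ha⟩ := ha
    obtain ⟨z', hz', hb⟩ := hb
    exact ⟨z + z', add_mem hz hz', by rw [map_add, map_add, ha, hb]⟩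
  | smul b a _ ha =>
    obtain ⟨z, hz, ha⟩ := ha
    induction mem_closure_functions hsq hV b using AddSubgroup.closure_induction with
    | mem b hb =>
      obtain ⟨c, r, rfl⟩ := hb
      exact ⟨c • (H23KS.mulL V r).lTensor L z, T.smul_mem _ (hTr r z hz), by
        rw [Scheme.Modules.Hom.app_smul, ha, kap_smul, kap_mulL, mul_smul]⟩
    | zero => exact ⟨0, zero_mem _, by rw [zero_smul, map_zero, map_zero]⟩
    | add x y _ _ hx hy =>
      obtain ⟨z₁, h₁, e₁⟩ := hx
      obtain ⟨z₂, h₂, e₂⟩ := hy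
      exact ⟨z₁ + z₂, add_mem h₁ h₂, by rw [add_smul, map_add, map_add, e₁, e₂]⟩
    | neg x _ hx =>
      obtain ⟨z₁, h₁, e₁⟩ := hx
      exact ⟨-z₁, neg_mem h₁, by rw [neg_smul, map_neg, map_neg, e₁]⟩

include hsq in
/-- A submodule of `q^* E` without maps to its quotient and stable under the automorphisms of the constants
descends. -/
theorem exists_descent [IsAlgClosed L] [IsLocallyNoetherian X] [CompactSpace X] (hE : Coh.IsCoh E) [Mono ι]
    (hG : Coh.IsCoh G) (hvan : ∀ φ : G ⟶ cokernel ι, φ = 0)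
    (hfac : ∀ (σ : L ≃ₐ[k] L) (s : X' ⟶ X') (_ : IsIso s) (hs : s ≫ q = q),
      IsPullback s (X' ↘ Spec (CommRingCat.of L)) (X' ↘ Spec (CommRingCat.of L))
        (Spec.map (CommRingCat.ofHom σ.toAlgHom.toRingHom)) →
      ∃ l : qF s G ⟶ G, l ≫ ι = (Scheme.Modules.pullback s).map ι ≫ (twistIso hs E).hom) :
    ∃ (G₀ : X.Modules) (ι₀ : G₀ ⟶ E) (e : qF q G₀ ≅ G), Mono ι₀ ∧ Coh.IsCoh G₀ ∧
      e.hom ≫ ι = (Scheme.Modules.pullback q).map ι₀ := by
  classical
  haveI := hE.1
  obtain ⟨n, U, hU, -, hcov⟩ := H10Coh.exists_finite_affine_cover (W := (⊤ : X.Opens))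
    (by simpa using isCompact_univ)
  have hc : ∀ x, ∃ i, x ∈ U i := fun x => Opens.mem_iSup.1 (hcov (Set.mem_univ x))
  -- the automorphisms
  have hperf : ∀ i, DefOver (Wsub hsq ι (U i)) (perfectClosure k L) := fun i => by
    refine (defOver_top _).descend (Set.range fun σ : L ≃ₐ[k] L => σ.toLinearMap - LinearMap.id) ?_ ?_ ?_ ?_
    · rintro _ ⟨σ, rfl⟩
      simp
    · exact fun f _ c _ => IntermediateField.mem_top
    · exact fun c _ h => mem_perfectClosure_of_fixed fun σ => sub_eq_zero.1 (h _ ⟨σ, rfl⟩)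
    · rintro _ ⟨σ, rfl⟩ w hw -
      obtain ⟨s, hs_iso, hs, hσ⟩ := exists_twist hsq σ
      obtain ⟨l, hl⟩ := hfac σ s hs_iso hs hσ
      rw [LinearMap.rTensor_sub, LinearMap.sub_apply, LinearMap.rTensor_id, LinearMap.id_apply]
      exact sub_mem (rTensor_mem_of_twist hsq ι σ hs hσ l hl hw) hw
  -- a finite subfield
  choose S hS hSd using fun i => exists_finite_defOver hsq ι hG (hU i) (hperf i)
  let T := Finset.univ.biUnion S
  let F₁ := IntermediateField.adjoin k (T : Set L)
  have hTsub : (T : Set L) ⊆ perfectClosure k L := fun c hc => by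
    obtain ⟨i, -, hi⟩ := Finset.mem_biUnion.1 (Finset.mem_coe.1 hc)
    exact hS i hi
  have hex : ∃ m : ℕ, ∃ F : IntermediateField k L, F ≤ perfectClosure k L ∧ FiniteDimensional k F ∧
      Module.finrank k F = m ∧ ∀ i, DefOver (Wsub hsq ι (U i)) F := by
    refine ⟨_, F₁, IntermediateField.adjoin_le_iff.2 hTsub,
      IntermediateField.finiteDimensional_adjoin fun c hc => ?_, rfl, fun i => (hSd i).trans (Submodule.span_mono
        fun v hv => ⟨hv.1, coeffIn_mono (IntermediateField.adjoin.mono k _ _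
          (Finset.coe_subset.2 (Finset.subset_biUnion_of_mem S (Finset.mem_univ i)))) hv.2⟩)⟩
    obtain ⟨p, hp⟩ := ExpChar.exists k
    obtain ⟨m, a, ha⟩ := (mem_perfectClosure_iff_pow_mem p).1 (hTsub hc)
    exact IsIntegral.of_pow (pow_pos (expChar_pos k p) m) (ha ▸ isIntegral_algebraMap)
  obtain ⟨F, hFle, hFfin, hFn, hFd⟩ := Nat.find_spec hex
  haveI := hFfin
  haveI := isPurelyInseparable_of_le hFle
  by_cases hF : F = ⊥
  · exact exists_sub hsq ι hE hG.1 U hU hc (hF ▸ hFd)
  obtain ⟨F₀, f, hlt, hf1, hfF, hfker, hfrule⟩ := exists_derivation F hF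
  refine absurd (Nat.find_min' hex ⟨F₀, hlt.le.trans hFle, ?_, rfl, fun i => ?_⟩) ?_
  · exact Module.Finite.of_injective (IntermediateField.inclusion hlt.le).toLinearMap
      (IntermediateField.inclusion hlt.le).toRingHom.injective
  · refine (hFd i).descend {f} (fun g hg => by rw [Set.mem_singleton_iff.1 hg]; exact hf1)
      (fun g hg => by rw [Set.mem_singleton_iff.1 hg]; exact hfF)
      (fun c hc h => hfker c hc (h f rfl)) ?_
    intro g hg w hw _
    rw [Set.mem_singleton_iff.1 hg]
    exact rTensor_mem hsq ι hE.1 hG.1 U hU hc hvan F f hfrule hFd i hw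
  · rw [not_le, ← hFn]
    exact Submodule.finrank_lt_finrank_of_lt (s := F₀.toSubalgebra.toSubmodule) (t := F.toSubalgebra.toSubmodule) hlt

end Groth.Agent.H10Coh.StabBC
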