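import Groth.Agent.H10Coh.StabBC.LinAlg
import Groth.Agent.H23KS.FieldBC
import Groth.Agent.H17.KoszSh.AffHom

/-!
# Sections of `q^* E` over the preimage of an affine open as `L ⊗_k Γ(E, V)`
-/

set_option autoImplicit false
set_option linter.style.haveILetI false
set_option linter.unusedSectionVars false
set_option backward.isDefEq.respectTransparency.types false

universe u

open CategoryTheory CategoryTheory.Limits AlgebraicGeometry Opposite TopologicalSpace
open scoped TensorProduct

noncomputable section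

namespace Groth.Agent.H10Coh.StabBC

open Groth.Agent.LeadBC Groth.Agent.LeadFF

variable {k L : Type u} [Field k] [Field L] [Algebra k L] {X : Scheme.{u}} [X.Over (Spec (CommRingCat.of k))]
  {X' : Scheme.{u}} [X'.Over (Spec (CommRingCat.of L))] {q : X' ⟶ X}
  (hsq : IsPullback q (X' ↘ Spec (CommRingCat.of L)) (X ↘ Spec (CommRingCat.of k))
    (Spec.map (CommRingCat.ofHom (algebraMap k L))))
  {E : X.Modules}

/-- `L ⊗_k Γ(E, V) → Γ(q^* E, q⁻¹ V)`. -/
def kap (V : X.Opens) : L ⊗[k] sec k E V →+ Γ(qF q E, q ⁻¹ᵁ V) where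
  toFun z := β L hsq E (le_refl (q ⁻¹ᵁ V)) (TensorProduct.comm k L (sec k E V) z)
  map_zero' := by rw [map_zero]; exact map_zero (β L hsq E (le_refl (q ⁻¹ᵁ V)))
  map_add' a b := by rw [map_add]; exact map_add (β L hsq E (le_refl (q ⁻¹ᵁ V))) _ _

theorem kap_tmul (V : X.Opens) (c : L) (m : Γ(E, V)) :
    kap hsq V (c ⊗ₜ (show sec k E V from m)) = sc (X := X') L (q ⁻¹ᵁ V) c • OmegaSh.pullSect q E V m :=
  H23KS.β_tmul_self hsq m c

theorem kap_one_tmul (V : X.Opens) (m : Γ(E, V)) :
    kap hsq V (1 ⊗ₜ (show sec k E V from m)) = OmegaSh.pullSect q E V m := by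
  rw [kap_tmul, map_one, one_smul]

theorem bijective_kap [E.IsQuasicoherent] {V : X.Opens} (hV : IsAffineOpen V) :
    Function.Bijective (kap (E := E) hsq V) :=
  (bijective_β L hsq E hV rfl (le_refl (q ⁻¹ᵁ V))).comp (TensorProduct.comm k L (sec k E V)).bijective

theorem kap_smul (V : X.Opens) (c : L) (z : L ⊗[k] sec k E V) :
    kap hsq V (c • z) = sc (X := X') L (q ⁻¹ᵁ V) c • kap hsq V z := by
  induction z using TensorProduct.induction_on with
  | zero => rw [smul_zero, map_zero, smul_zero]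
  | add a b ha hb => rw [smul_add, map_add, map_add, ha, hb, smul_add]
  | tmul d m =>
    rw [TensorProduct.smul_tmul', smul_eq_mul]
    refine (kap_tmul hsq V (c * d) (show Γ(E, V) from m)).trans ?_
    rw [map_mul, mul_smul]
    exact congrArg _ (kap_tmul hsq V d (show Γ(E, V) from m)).symm

theorem kap_mulL (V : X.Opens) (r : Γ(X, V)) (z : L ⊗[k] sec k E V) :
    kap hsq V ((H23KS.mulL V r).lTensor L z) = q.app V r • kap hsq V z := by
  induction z using TensorProduct.induction_on with
  | zero => rw [map_zero, map_zero, smul_zero]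
  | add a b ha hb => rw [map_add, map_add, map_add, ha, hb, smul_add]
  | tmul d m =>
    rw [LinearMap.lTensor_tmul]
    refine (kap_tmul hsq V d (r • (show Γ(E, V) from m))).trans ?_
    rw [OmegaSh.pullSect_smul, smul_comm]
    exact congrArg _ (kap_tmul hsq V d (show Γ(E, V) from m)).symm

theorem kap_res {V V₀ : X.Opens} (h : V₀ ≤ V) (z : L ⊗[k] sec k E V) :
    kap hsq V₀ ((resL k E h).lTensor L z) =
      (qF q E).presheaf.map (homOfLE (fun y hy => h hy : q ⁻¹ᵁ V₀ ≤ q ⁻¹ᵁ V)).op (kap hsq V z) := by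
  induction z using TensorProduct.induction_on with
  | zero => rw [map_zero, map_zero, map_zero, map_zero]
  | add a b ha hb => rw [map_add, map_add, map_add, map_add, ha, hb]
  | tmul d m =>
    rw [LinearMap.lTensor_tmul]
    refine (kap_tmul hsq V₀ d (E.presheaf.map (homOfLE h).op (show Γ(E, V) from m))).trans ?_
    rw [OmegaSh.pullSect_map q E h, kap_tmul hsq V d (show Γ(E, V) from m), Scheme.Modules.map_smul, map_scal]

include hsq in
/-- Functions on `q⁻¹ V` are combinations of constants and functions on `V`. -/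
theorem mem_closure_functions {V : X.Opens} (hV : IsAffineOpen V) (b : Γ(X', q ⁻¹ᵁ V)) :
    b ∈ AddSubgroup.closure {x | ∃ (c : L) (r : Γ(X, V)), x = sc (X := X') L (q ⁻¹ᵁ V) c * q.app V r} := by
  letI : Algebra k Γ(X, V) := (sc k V).toAlgebra
  letI : Algebra L Γ(X', q ⁻¹ᵁ V) := (sc L (q ⁻¹ᵁ V)).toAlgebra
  letI : Algebra Γ(X, V) Γ(X', q ⁻¹ᵁ V) := (q.app V).hom.toAlgebra
  letI : Algebra k Γ(X', q ⁻¹ᵁ V) := ((sc L (q ⁻¹ᵁ V)).comp (algebraMap k L)).toAlgebra
  haveI : IsScalarTower k Γ(X, V) Γ(X', q ⁻¹ᵁ V) := .of_algebraMap_eq fun a => (app_scal hsq V a).symm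
  haveI : IsScalarTower k L Γ(X', q ⁻¹ᵁ V) := .of_algebraMap_eq fun _ => rfl
  haveI : Algebra.IsPushout k Γ(X, V) L Γ(X', q ⁻¹ᵁ V) := CommRingCat.isPushout_iff_isPushout.mp (by
    exact isPushout_scal hsq hV)
  refine (Algebra.IsPushout.out (R := k) (S := Γ(X, V)) (R' := L) (S' := Γ(X', q ⁻¹ᵁ V))).inductionOn b
    (fun x => x ∈ AddSubgroup.closure {x | ∃ (c : L) (r : Γ(X, V)), x = sc (X := X') L (q ⁻¹ᵁ V) c * q.app V r})
    (zero_mem _) (fun c => AddSubgroup.subset_closure ⟨c, 1, ?_⟩) (fun r x hx => ?_) (fun x y hx hy => add_mem hx hy)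
  · rw [map_one, mul_one]; rfl
  · show q.app V r * x ∈ _
    induction hx using AddSubgroup.closure_induction with
    | mem x hx =>
      obtain ⟨c, r', rfl⟩ := hx
      exact AddSubgroup.subset_closure ⟨c, r * r', by rw [map_mul]; ring⟩
    | zero => rw [mul_zero]; exact zero_mem _
    | add a b _ _ ha hb => rw [mul_add]; exact add_mem ha hb
    | neg a _ ha => rw [mul_neg]; exact neg_mem ha

/-- The endomorphism of `q_* q^* E` given by a linear endomorphism of `L`. -/
theorem exists_endo [E.IsQuasicoherent] (f : L →ₗ[k] L) :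
    ∃ Φ : (Scheme.Modules.pushforward q).obj (qF q E) ⟶ (Scheme.Modules.pushforward q).obj (qF q E),
      ∀ (V : X.Opens) (_ : IsAffineOpen V) (z : L ⊗[k] sec k E V),
        Φ.app V (kap hsq V z) = kap hsq V (f.rTensor (sec k E V) z) := by
  let e := fun (U : X.affineOpens) => AddEquiv.ofBijective (kap (E := E) hsq U.1) (bijective_kap hsq U.2)
  have he : ∀ U z, e U z = kap hsq U.1 z := fun U z => rfl
  have hs : ∀ (U : X.affineOpens) (x : Γ(qF q E, q ⁻¹ᵁ U.1)), kap hsq U.1 ((e U).symm x) = x := fun U x =>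
    (e U).apply_symm_apply x
  have hc : ∀ (U : X.affineOpens) {N : Type u} [AddCommGroup N] [Module k N] (g : sec k E U.1 →ₗ[k] N)
      (z : L ⊗[k] sec k E U.1), f.rTensor N (g.lTensor L z) = g.lTensor L (f.rTensor (sec k E U.1) z) :=
    fun U N _ _ g z => by
      rw [← LinearMap.comp_apply, LinearMap.rTensor_comp_lTensor, ← LinearMap.lTensor_comp_rTensor]
      rfl
  obtain ⟨Φ, hΦ⟩ := H17.AffHom.exists_hom (M := (Scheme.Modules.pushforward q).obj (qF q E))
    (N := (Scheme.Modules.pushforward q).obj (qF q E))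
    (fun U =>
      { toFun := fun x => kap hsq U.1 (f.rTensor _ ((e U).symm x))
        map_add' := fun a b => (congrArg (fun z => kap hsq U.1 (f.rTensor _ z))
          ((e U).symm.map_add a b)).trans ((congrArg (kap hsq U.1) (map_add _ _ _)).trans (map_add _ _ _))
        map_smul' := fun r x => by
          show kap hsq U.1 (f.rTensor _ ((e U).symm (q.app U.1 r • (show Γ(qF q E, q ⁻¹ᵁ U.1) from x)))) =
            q.app U.1 r • kap hsq U.1 (f.rTensor _ ((e U).symm x))
          rw [← kap_mulL, show (e U).symm (q.app U.1 r • (show Γ(qF q E, q ⁻¹ᵁ U.1) from x)) =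
            (H23KS.mulL U.1 r).lTensor L ((e U).symm x) from (e U).injective (by
              rw [(e U).apply_symm_apply, he, kap_mulL, hs])]
          exact congrArg (kap hsq U.1) (hc U _ _) })
    (fun U U₀ h x => by
      show kap hsq U₀.1 (f.rTensor _ ((e U₀).symm ((qF q E).presheaf.map _ (show Γ(qF q E, q ⁻¹ᵁ U.1) from x)))) =
        (qF q E).presheaf.map _ (kap hsq U.1 (f.rTensor _ ((e U).symm x)))
      rw [show (e U₀).symm ((qF q E).presheaf.map _ (show Γ(qF q E, q ⁻¹ᵁ U.1) from x)) =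
        (resL k E h).lTensor L ((e U).symm x) from (e U₀).injective (by
          rw [(e U₀).apply_symm_apply, he, kap_res, hs]
          rfl), hc U]
      exact kap_res hsq h _)
  refine ⟨Φ, fun V hV z => (hΦ ⟨V, hV⟩ (kap hsq V z)).trans ?_⟩
  exact congrArg (fun w => kap hsq V (f.rTensor _ w)) ((e ⟨V, hV⟩).symm_apply_apply z)

end Groth.Agent.H10Coh.StabBC
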